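import Mathlib

/-!
# Counting fixed points in a 2-transitive group

Exchange identities for sums over fixed points, orbit counts of subgroups, and the "lines"
`Fix (G_uv)` of a doubly transitive group. Used for the lower bound on the number of derangements.
-/

set_option autoImplicit false
set_option linter.style.haveILetI false

open MulAction
open scoped Classical

namespace Cfsg.Agent.Perm.DerangeBound

noncomputable section

variable {G Ω : Type*} [Group G] [Fintype G] [MulAction G Ω] [Fintype Ω]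

/-- Number of fixed points of an element. -/
def fx (Ω : Type*) {G : Type*} [Group G] [MulAction G Ω] [Fintype Ω] (g : G) : ℕ :=
  (Finset.univ.filter fun x : Ω => g • x = x).card

/-- The points fixed by every element of a subgroup. -/
def Fix {G Ω : Type*} [Group G] [MulAction G Ω] [Fintype Ω] (K : Subgroup G) : Finset Ω :=
  Finset.univ.filter fun x : Ω => ∀ g ∈ K, g • x = x

/-- The elements of a subgroup, as a finset. -/
def els (K : Subgroup G) : Finset G := Finset.univ.filter fun g => g ∈ K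

/-- The number of orbits of a subgroup. -/
def norb (Ω : Type*) {G : Type*} [Group G] [MulAction G Ω] (K : Subgroup G) : ℕ :=
  Nat.card (orbitRel.Quotient K Ω)

omit [Fintype G] in
theorem mem_Fix {K : Subgroup G} {x : Ω} : x ∈ Fix K ↔ ∀ g ∈ K, g • x = x := by
  simp [Fix]

theorem mem_els {K : Subgroup G} {g : G} : g ∈ els K ↔ g ∈ K := by simp [els]

theorem card_els (K : Subgroup G) : (els K).card = Nat.card K := by
  rw [Nat.card_eq_fintype_card]
  exact (Fintype.card_subtype _).symm

theorem fx_le (g : G) : fx Ω g ≤ Fintype.card Ω := Finset.card_le_univ _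

theorem fx_one : fx Ω (1 : G) = Fintype.card Ω := by simp [fx]

theorem eq_one_of_fx [FaithfulSMul G Ω] {g : G} (h : fx Ω g = Fintype.card Ω) : g = 1 := by
  apply FaithfulSMul.eq_of_smul_eq_smul (α := Ω)
  intro x
  have := Finset.eq_univ_of_card _ h
  have hx : x ∈ Finset.univ.filter fun y : Ω => g • y = y := by rw [this]; exact Finset.mem_univ x
  rw [one_smul]
  exact (Finset.mem_filter.mp hx).2

theorem natCard_fixedBy (g : G) : Nat.card (fixedBy Ω g) = fx Ω g := by
  rw [Nat.card_eq_fintype_card]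
  exact Fintype.card_subtype _

theorem fx_conj (c g : G) : fx Ω (c * g * c⁻¹) = fx Ω g := by
  unfold fx
  refine Finset.card_bij' (fun x _ => c⁻¹ • x) (fun x _ => c • x) ?_ ?_ ?_ ?_
  · intro x hx
    simp only [Finset.mem_filter, Finset.mem_univ, true_and, mul_smul] at hx ⊢
    exact (eq_inv_smul_iff).mpr hx
  · intro x hx
    simp only [Finset.mem_filter, Finset.mem_univ, true_and, mul_smul] at hx ⊢
    rw [inv_smul_smul, hx]
  · intro x _; simp
  · intro x _; simp

/-- Exchange of summation: weighting by the number of fixed points. -/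
theorem sum_fx_mul (S : Finset G) (φ : G → ℝ) :
    ∑ g ∈ S, (fx Ω g : ℝ) * φ g = ∑ x : Ω, ∑ g ∈ S.filter (fun g => g • x = x), φ g := by
  calc ∑ g ∈ S, (fx Ω g : ℝ) * φ g
      = ∑ g ∈ S, ∑ x : Ω, (if g • x = x then φ g else 0) := by
        refine Finset.sum_congr rfl fun g _ => ?_
        rw [← Finset.sum_filter, Finset.sum_const, nsmul_eq_mul]
        rfl
    _ = ∑ x : Ω, ∑ g ∈ S, (if g • x = x then φ g else 0) := Finset.sum_comm
    _ = _ := Finset.sum_congr rfl fun x _ => (Finset.sum_filter _ _).symm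

theorem els_filter (K : Subgroup G) (x : Ω) :
    (els K).filter (fun g => g • x = x) = els (K ⊓ stabilizer G x) := by
  ext g
  simp [els, Subgroup.mem_inf]

/-- Burnside's lemma for a subgroup. -/
theorem sum_fx_els (K : Subgroup G) :
    ∑ g ∈ els K, fx Ω g = norb Ω K * Nat.card K := by
  haveI := Fintype.ofFinite (orbitRel.Quotient K Ω)
  have h := sum_card_fixedBy_eq_card_orbits_mul_card_group K Ω
  rw [norb, Nat.card_eq_fintype_card, Nat.card_eq_fintype_card]
  rw [els, Finset.sum_subtype (p := (· ∈ K)) _ (by simp)]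
  refine (Finset.sum_congr rfl fun g _ => ?_).trans h
  rw [← natCard_fixedBy, Nat.card_eq_fintype_card]
  exact Fintype.card_congr (Equiv.setCongr rfl)

theorem sum_fx_els_real (K : Subgroup G) :
    ∑ g ∈ els K, (fx Ω g : ℝ) = norb Ω K * Nat.card K := by
  exact_mod_cast sum_fx_els (Ω := Ω) K

/-- The sum of the squares of the fixed point numbers over a subgroup. -/
theorem sum_fx_sq_els (K : Subgroup G) :
    ∑ g ∈ els K, (fx Ω g : ℝ) * fx Ω g =
      ∑ x : Ω, (norb Ω (K ⊓ stabilizer G x) : ℝ) * Nat.card ↥(K ⊓ stabilizer G x) := by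
  rw [sum_fx_mul]
  refine Finset.sum_congr rfl fun x _ => ?_
  rw [els_filter, sum_fx_els_real]

theorem sum_card_inf_stabilizer (K : Subgroup G) :
    ∑ x : Ω, (Nat.card ↥(K ⊓ stabilizer G x) : ℝ) = norb Ω K * Nat.card K := by
  rw [← sum_fx_els_real]
  have h := sum_fx_mul (Ω := Ω) (els K) (fun _ => (1 : ℝ))
  simp only [mul_one] at h
  rw [h]
  refine Finset.sum_congr rfl fun x _ => ?_
  rw [els_filter, Finset.sum_const, card_els, nsmul_one]

/-- Weighting by ordered pairs of distinct fixed points. -/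
theorem sum_fx_pairs (S : Finset G) (φ : G → ℝ) :
    ∑ g ∈ S, (fx Ω g : ℝ) * ((fx Ω g : ℝ) - 1) * φ g =
      ∑ x : Ω, ∑ y ∈ Finset.univ.erase x,
        ∑ g ∈ S.filter (fun g => g • x = x ∧ g • y = y), φ g := by
  simp only [mul_assoc]
  rw [sum_fx_mul]
  refine Finset.sum_congr rfl fun x _ => ?_
  calc ∑ g ∈ S.filter (fun g => g • x = x), ((fx Ω g : ℝ) - 1) * φ g
      = ∑ g ∈ S.filter (fun g => g • x = x), ∑ y ∈ Finset.univ.erase x,
          (if g • y = y then φ g else 0) := by
        refine Finset.sum_congr rfl fun g hg => ?_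
        rw [← Finset.sum_filter, Finset.sum_const, nsmul_eq_mul, Finset.filter_erase,
          Finset.card_erase_of_mem (by simpa using (Finset.mem_filter.mp hg).2),
          Nat.cast_sub (Finset.card_pos.mpr ⟨x, by simpa using (Finset.mem_filter.mp hg).2⟩)]
        simp [fx]
    _ = _ := by
        rw [Finset.sum_comm]
        refine Finset.sum_congr rfl fun y _ => ?_
        rw [← Finset.sum_filter, Finset.filter_filter]

/-! ### Two-point stabilisers and lines -/

/-- The stabiliser of two points. -/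
def St (G : Type*) {Ω : Type*} [Group G] [MulAction G Ω] (u v : Ω) : Subgroup G :=
  stabilizer G u ⊓ stabilizer G v

/-- The line through two points. -/
def Ln (G : Type*) {Ω : Type*} [Group G] [MulAction G Ω] [Fintype Ω] (u v : Ω) : Finset Ω :=
  Fix (St G u v)

omit [Fintype G] [Fintype Ω] in
theorem mem_St {u v : Ω} {g : G} : g ∈ St G u v ↔ g • u = u ∧ g • v = v := by
  simp [St, Subgroup.mem_inf]

omit [Fintype G] [Fintype Ω] in
theorem St_comm (u v : Ω) : St G u v = St G v u := inf_comm _ _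

omit [Fintype G] in
theorem mem_Ln {u v x : Ω} : x ∈ Ln G u v ↔ ∀ g : G, g • u = u → g • v = v → g • x = x := by
  simp [Ln, mem_Fix, mem_St]

omit [Fintype G] in
theorem left_mem_Ln (u v : Ω) : u ∈ Ln G u v := mem_Ln.mpr fun _ h _ => h

omit [Fintype G] in
theorem right_mem_Ln (u v : Ω) : v ∈ Ln G u v := mem_Ln.mpr fun _ _ h => h

omit [Fintype G] [Fintype Ω] in
theorem conj_mem_St (c : G) {u v : Ω} {g : G} :
    c * g * c⁻¹ ∈ St G (c • u) (c • v) ↔ g ∈ St G u v := by
  simp [mem_St, mul_smul]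

theorem sum_St_conj (c : G) (u v : Ω) (ψ : ℕ → ℝ) :
    ∑ g ∈ els (St G (c • u) (c • v)), ψ (fx Ω g) = ∑ g ∈ els (St G u v), ψ (fx Ω g) := by
  refine (Finset.sum_equiv (MulAut.conj c).toEquiv ?_ ?_).symm
  · intro g
    simp [mem_els, conj_mem_St]
  · intro g _
    simp [fx_conj]

omit [Fintype G] in
theorem mem_Ln_smul (c : G) {u v x : Ω} : c • x ∈ Ln G (c • u) (c • v) ↔ x ∈ Ln G u v := by
  constructor
  · intro h
    refine mem_Ln.mpr fun g hu hv => ?_
    have := mem_Ln.mp h (c * g * c⁻¹) (by simp [mul_smul, hu]) (by simp [mul_smul, hv])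
    simpa [mul_smul] using this
  · intro h
    refine mem_Ln.mpr fun g hu hv => ?_
    have := mem_Ln.mp h (c⁻¹ * g * c) (by simp [mul_smul, hu]) (by simp [mul_smul, hv])
    have := congrArg (c • ·) this
    simpa [mul_smul] using this

variable (G Ω) in
/-- Double transitivity. -/
def TwoTrans : Prop := ∀ u v x y : Ω, u ≠ v → x ≠ y → ∃ g : G, g • u = x ∧ g • v = y

theorem card_St_eq (h2 : TwoTrans G Ω) {u v x y : Ω} (huv : u ≠ v) (hxy : x ≠ y) :
    Nat.card (St G x y) = Nat.card (St G u v) := by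
  obtain ⟨c, rfl, rfl⟩ := h2 u v x y huv hxy
  have := sum_St_conj (G := G) c u v (fun _ => (1 : ℝ))
  simp only [Finset.sum_const, nsmul_eq_mul, mul_one, card_els, Nat.cast_inj] at this
  exact this

/-- Two points of a line determine it. -/
theorem St_eq_of_mem (h2 : TwoTrans G Ω) {u v x y : Ω} (huv : u ≠ v) (hxy : x ≠ y)
    (hx : x ∈ Ln G u v) (hy : y ∈ Ln G u v) : St G x y = St G u v := by
  refine (Subgroup.eq_of_le_of_card_ge ?_ (card_St_eq h2 huv hxy).le).symm
  intro g hg
  exact mem_St.mpr ⟨mem_Fix.mp hx g hg, mem_Fix.mp hy g hg⟩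

theorem Ln_eq_of_mem (h2 : TwoTrans G Ω) {u v x y : Ω} (huv : u ≠ v) (hxy : x ≠ y)
    (hx : x ∈ Ln G u v) (hy : y ∈ Ln G u v) : Ln G x y = Ln G u v := by
  rw [Ln, Ln, St_eq_of_mem h2 huv hxy hx hy]

theorem card_Ln_eq (h2 : TwoTrans G Ω) {u v x y : Ω} (huv : u ≠ v) (hxy : x ≠ y) :
    (Ln G x y).card = (Ln G u v).card := by
  obtain ⟨c, rfl, rfl⟩ := h2 u v x y huv hxy
  refine (Finset.card_equiv (MulAction.toPerm c) fun z => ?_).symm
  exact (mem_Ln_smul c).symm

/-- Distinct lines meet in at most one point. -/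
theorem eq_of_mem_two_Ln (h2 : TwoTrans G Ω) {u v x y z w : Ω} (huv : u ≠ v) (hxy : x ≠ y)
    (hz : z ∈ Ln G u v) (hw : w ∈ Ln G u v) (hz' : z ∈ Ln G x y) (hw' : w ∈ Ln G x y)
    (hne : Ln G u v ≠ Ln G x y) : z = w := by
  by_contra hzw
  exact hne ((Ln_eq_of_mem h2 huv hzw hz hw).symm.trans (Ln_eq_of_mem h2 hxy hzw hz' hw'))

/-! ### Orbit counting -/

omit [Fintype G] in
theorem card_Fix_le_norb (K : Subgroup G) : (Fix (Ω := Ω) K).card ≤ norb Ω K := by
  rw [norb, ← Nat.card_eq_finsetCard]
  refine Nat.card_le_card_of_injective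
    (fun x : Fix (Ω := Ω) K => (Quotient.mk'' x.1 : orbitRel.Quotient K Ω)) ?_
  intro x y h
  obtain ⟨g, hg⟩ := Quotient.eq''.mp h
  refine Subtype.ext (hg.symm.trans ?_)
  exact mem_Fix.mp y.2 g g.2

omit [Fintype G] in
/-- A subgroup has more orbits: each new fixed point contributes at least one half. -/
theorem two_norb_le {K H : Subgroup G} (hKH : K ≤ H) :
    2 * norb Ω H + ((Fix K) \ (Fix H) : Finset Ω).card ≤ 2 * norb Ω K := by
  haveI := Fintype.ofFinite (orbitRel.Quotient K Ω)
  haveI := Fintype.ofFinite (orbitRel.Quotient H Ω)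
  let π : orbitRel.Quotient K Ω → orbitRel.Quotient H Ω :=
    Quotient.map' id fun x y h => by
      obtain ⟨g, hg⟩ := h
      exact ⟨⟨g, hKH g.2⟩, hg⟩
  let mkH : Ω → orbitRel.Quotient H Ω := Quotient.mk''
  let mkK : Ω → orbitRel.Quotient K Ω := Quotient.mk''
  have hπ : ∀ x, π (mkK x) = mkH x := fun x => rfl
  have h1 := Finset.card_eq_sum_card_fiberwise
    (f := π) (s := Finset.univ) (t := Finset.univ) fun _ _ => Finset.mem_univ _
  have h2 := Finset.card_eq_sum_card_fiberwise
    (f := mkH) (s := (Fix K) \ (Fix H)) (t := Finset.univ) fun _ _ => Finset.mem_univ _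
  rw [norb, norb, Nat.card_eq_fintype_card, Nat.card_eq_fintype_card, ← Finset.card_univ,
    ← Finset.card_univ, h1, h2, Finset.card_eq_sum_ones (Finset.univ : Finset (orbitRel.Quotient H Ω)),
    Finset.mul_sum, Finset.mul_sum, ← Finset.sum_add_distrib]
  refine Finset.sum_le_sum fun q _ => ?_
  set A := (Finset.univ.filter fun e => π e = q) with hA
  set B := ((Fix K) \ (Fix H)).filter (fun x => mkH x = q) with hB
  induction q using Quotient.inductionOn' with
  | h w =>
    have hA1 : 1 ≤ A.card := Finset.card_pos.mpr ⟨mkK w, by simp [hA, hπ, mkH]⟩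
    have hinj : Set.InjOn mkK B := by
      intro x hx y hy h
      obtain ⟨g, hg⟩ := Quotient.eq''.mp h
      have hy' := (Finset.mem_sdiff.mp (Finset.mem_filter.mp hy).1).1
      exact hg.symm.trans (mem_Fix.mp hy' g g.2)
    have hBA : B.card ≤ A.card := by
      refine Finset.card_le_card_of_injOn mkK (fun x hx => ?_) hinj
      simp only [hA, Finset.mem_coe, Finset.mem_filter, Finset.mem_univ, true_and, hπ]
      exact (Finset.mem_filter.mp hx).2
    rcases B.eq_empty_or_nonempty with he | ⟨x, hx⟩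
    · rw [he, Finset.card_empty]; omega
    have hxP := Finset.mem_sdiff.mp (Finset.mem_filter.mp hx).1
    obtain ⟨g, hgH, hgx⟩ : ∃ g ∈ H, g • x ≠ x := by
      by_contra! hc
      exact hxP.2 (mem_Fix.mpr hc)
    have hA2 : 2 ≤ A.card := by
      refine Finset.one_lt_card.mpr ⟨mkK x, ?_, mkK (g • x), ?_, ?_⟩
      · simp only [hA, Finset.mem_filter, Finset.mem_univ, true_and, hπ]
        exact (Finset.mem_filter.mp hx).2
      · simp only [hA, Finset.mem_filter, Finset.mem_univ, true_and, hπ]
        refine Eq.trans ?_ (Finset.mem_filter.mp hx).2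
        exact Quotient.sound' ⟨⟨g, hgH⟩, rfl⟩
      · intro h
        obtain ⟨k, hk⟩ := Quotient.eq''.mp h.symm
        exact hgx (hk.symm.trans (mem_Fix.mp hxP.1 k k.2))
    omega

end

end Cfsg.Agent.Perm.DerangeBound
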