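import Mathlib
import Cfsg.Agent.Lib.Perm.DerangeBound.Basic

/-!
# Seven fixed points: no Fano configuration

If every two-point stabiliser of a doubly transitive group has orbits of size at most two and
every line has three points, then the fixed point set of a subgroup cannot be a seven-point
configuration on which a two-point stabiliser moves a point.
-/

set_option autoImplicit false
set_option linter.unusedSectionVars false
set_option linter.style.haveILetI false

open MulAction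
open scoped Classical

namespace Cfsg.Agent.Perm.DerangeBound

variable {G Ω : Type*} [Group G] [Fintype G] [MulAction G Ω] [FaithfulSMul G Ω] [Fintype Ω]

theorem exists_third (hk : ∀ u v : Ω, u ≠ v → (Ln G u v).card = 3) {u v : Ω} (huv : u ≠ v) :
    ∃ w, w ∈ Ln G u v ∧ w ≠ u ∧ w ≠ v ∧ ∀ x ∈ Ln G u v, x = u ∨ x = v ∨ x = w := by
  have h : (((Ln G u v).erase u).erase v).card = 1 := by
    rw [Finset.card_erase_of_mem (by simp [huv.symm, right_mem_Ln]),
      Finset.card_erase_of_mem (left_mem_Ln u v), hk u v huv]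
  obtain ⟨w, hw⟩ := Finset.card_eq_one.mp h
  have hm : w ∈ ((Ln G u v).erase u).erase v := by rw [hw]; exact Finset.mem_singleton_self w
  simp only [Finset.mem_erase] at hm
  refine ⟨w, hm.2.2, hm.2.1, hm.1, fun x hx => ?_⟩
  by_contra! hc
  have hx' : x ∈ ((Ln G u v).erase u).erase v := by simp [hx, hc.1, hc.2.1]
  rw [hw, Finset.mem_singleton] at hx'
  exact hc.2.2 hx'

set_option maxHeartbeats 1600000 in
theorem no_fano (h2 : TwoTrans G Ω)
    (hI : ∀ u v : Ω, u ≠ v → ∀ g ∈ St G u v, ∀ x : Ω, g • g • x = x)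
    (hII : ∀ u v : Ω, u ≠ v → ∀ g ∈ St G u v, ∀ g' ∈ St G u v, ∀ x : Ω,
      g • x ≠ x → g' • x ≠ x → g • x = g' • x)
    (hk : ∀ u v : Ω, u ≠ v → (Ln G u v).card = 3)
    (K : Subgroup G) (hcard : (Fix (Ω := Ω) K).card = 7) {a b c : Ω} (hab : a ≠ b)
    (ha : a ∈ Fix K) (hb : b ∈ Fix K) (hc : c ∈ Fix K) (hcl : c ∉ Ln G a b) : False := by
  set π : Finset Ω := Fix K with hπ
  -- lines and two-point stabilisers stay inside `π`
  have hKle : ∀ u ∈ π, ∀ v ∈ π, K ≤ St G u v := fun u hu v hv g hg =>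
    mem_St.mpr ⟨mem_Fix.mp hu g hg, mem_Fix.mp hv g hg⟩
  have hline : ∀ u ∈ π, ∀ v ∈ π, Ln G u v ⊆ π := fun u hu v hv x hx =>
    mem_Fix.mpr fun g hg => mem_Fix.mp hx g (hKle u hu v hv hg)
  have hmap : ∀ u ∈ π, ∀ v ∈ π, u ≠ v → ∀ g ∈ St G u v, ∀ x ∈ π, g • x ∈ π := by
    intro u hu v hv huv g hg x hx
    refine mem_Fix.mpr fun k hk' => ?_
    have hk1 := hKle u hu v hv hk'
    have hsq : ∀ e ∈ St G u v, e * e = 1 := fun e he => FaithfulSMul.eq_of_smul_eq_smul (α := Ω)
      fun z => by rw [mul_smul, hI u v huv e he z, one_smul]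
    have hcm : k * g = g * k := by
      have h1 := hsq _ hk1
      have h2' := hsq _ hg
      have h3 := hsq _ ((St G u v).mul_mem hk1 hg)
      rw [mul_eq_one_iff_eq_inv] at h1 h2' h3
      rw [h3, mul_inv_rev, ← h1, ← h2']
    rw [← mul_smul, hcm, mul_smul, mem_Fix.mp hx k hk']
  -- an element of a two-point stabiliser fixing a point off the line fixes everything
  have hfixall : ∀ u ∈ π, ∀ v ∈ π, u ≠ v → ∀ g ∈ St G u v, ∀ x ∈ π, x ∉ Ln G u v →
      g • x = x → ∀ z ∈ π, g • z = z := by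
    intro u hu v hv huv g hg x hx hxl hgx z hz
    by_contra hgz
    have hg' := mem_St.mp hg
    have hux : u ≠ x := fun h => hxl (h ▸ left_mem_Ln u v)
    have hvx : v ≠ x := fun h => hxl (h ▸ right_mem_Ln u v)
    set U := Ln G u v ∪ Ln G u x ∪ Ln G v x with hU
    have hUfix : ∀ w ∈ U, g • w = w := by
      intro w hw
      simp only [hU, Finset.mem_union] at hw
      rcases hw with (hw | hw) | hw
      · exact mem_Ln.mp hw g hg'.1 hg'.2
      · exact mem_Ln.mp hw g hg'.1 hgx
      · exact mem_Ln.mp hw g hg'.2 hgx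
    have hne1 : Ln G u v ≠ Ln G u x := fun h => hxl (h ▸ right_mem_Ln u x)
    have hne2 : Ln G u v ≠ Ln G v x := fun h => hxl (h ▸ right_mem_Ln v x)
    have hne3 : Ln G u x ≠ Ln G v x := by
      intro h
      have hmem : v ∈ Ln G u x := h ▸ left_mem_Ln v x
      exact hne1 (Ln_eq_of_mem h2 hux huv (left_mem_Ln u x) hmem)
    have i1 : Ln G u v ∩ Ln G u x ⊆ {u} := fun w hw => Finset.mem_singleton.mpr
      (eq_of_mem_two_Ln h2 huv hux (Finset.mem_inter.mp hw).1 (left_mem_Ln u v)
        (Finset.mem_inter.mp hw).2 (left_mem_Ln u x) hne1)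
    have i2 : (Ln G u v ∪ Ln G u x) ∩ Ln G v x ⊆ {v, x} := by
      intro w hw
      rw [Finset.mem_inter, Finset.mem_union] at hw
      rw [Finset.mem_insert, Finset.mem_singleton]
      rcases hw.1 with hw1 | hw1
      · exact Or.inl (eq_of_mem_two_Ln h2 huv hvx hw1 (right_mem_Ln u v) hw.2 (left_mem_Ln v x) hne2)
      · exact Or.inr (eq_of_mem_two_Ln h2 hux hvx hw1 (right_mem_Ln u x) hw.2 (right_mem_Ln v x) hne3)
    have c1 := Finset.card_union_add_card_inter (Ln G u v) (Ln G u x)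
    have c2 := Finset.card_union_add_card_inter (Ln G u v ∪ Ln G u x) (Ln G v x)
    have d1 := Finset.card_le_card i1
    have d2 := Finset.card_le_card i2
    rw [hk u v huv, hk u x hux] at c1
    rw [hk v x hvx] at c2
    simp only [Finset.card_singleton] at d1
    have d3 : ({v, x} : Finset Ω).card ≤ 2 := Finset.card_le_two
    have hU6 : 6 ≤ U.card := by rw [hU]; omega
    have hUs : U ⊆ π :=
      Finset.union_subset (Finset.union_subset (hline u hu v hv) (hline u hu x hx)) (hline v hv x hx)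
    have hzU : z ∉ U := fun h => hgz (hUfix z h)
    have hgzU : g • z ∉ U := fun h => hgz (smul_left_cancel g (hUfix _ h))
    have hsub : ({z, g • z} : Finset Ω) ⊆ π \ U := by
      intro w hw
      simp only [Finset.mem_insert, Finset.mem_singleton] at hw
      rcases hw with rfl | rfl
      · exact Finset.mem_sdiff.mpr ⟨hz, hzU⟩
      · exact Finset.mem_sdiff.mpr ⟨hmap u hu v hv huv g hg z hz, hgzU⟩
    have := Finset.card_le_card hsub
    rw [Finset.card_pair (Ne.symm hgz), Finset.card_sdiff_of_subset hUs, hcard] at this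
    omega
  have hinv : ∀ u ∈ π, ∀ v ∈ π, u ≠ v →
      ∃ g ∈ St G u v, ∀ y ∈ π, y ∉ Ln G u v → g • y ≠ y := by
    intro u hu v hv huv
    obtain ⟨x, hx, hxl⟩ := Finset.exists_mem_notMem_of_card_lt_card
      (s := Ln G u v) (t := π) (by rw [hk u v huv, hcard]; norm_num)
    obtain ⟨g, hgu, hgv, hgx⟩ : ∃ g : G, g • u = u ∧ g • v = v ∧ g • x ≠ x := by
      by_contra! h
      exact hxl (mem_Ln.mpr h)
    exact ⟨g, mem_St.mpr ⟨hgu, hgv⟩, fun y hy hyl hgy =>
      hgx (hfixall u hu v hv huv g (mem_St.mpr ⟨hgu, hgv⟩) y hy hyl hgy x hx)⟩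
  have hcomm : ∀ u ∈ π, ∀ v ∈ π, u ≠ v → ∀ g ∈ St G u v,
      (∀ y ∈ π, y ∉ Ln G u v → g • y ≠ y) → ∀ σ : G, σ • u ∈ Ln G u v → σ • v ∈ Ln G u v →
      ∀ x ∈ π, σ • x ∈ π → σ • g • x = g • σ • x := by
    intro u hu v hv huv g hg hmv σ hσu hσv x hx hσx
    have hne : σ • u ≠ σ • v := fun h => huv (smul_left_cancel σ h)
    have hL : Ln G (σ • u) (σ • v) = Ln G u v := Ln_eq_of_mem h2 huv hne hσu hσv
    have hiff : σ • x ∈ Ln G u v ↔ x ∈ Ln G u v := by
      have e := mem_Ln_smul σ (u := u) (v := v) (x := x)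
      rwa [hL] at e
    by_cases hxl : x ∈ Ln G u v
    · rw [mem_Fix.mp hxl g hg, mem_Fix.mp (hiff.mpr hxl) g hg]
    · have hg' : σ * g * σ⁻¹ ∈ St G u v := by
        rw [← St_eq_of_mem h2 huv hne hσu hσv]
        exact (conj_mem_St σ).mpr hg
      have e : (σ * g * σ⁻¹) • σ • x = σ • g • x := by simp [mul_smul]
      rw [← e]
      refine hII u v huv _ hg' g hg _ ?_ (hmv _ hσx fun h => hxl (hiff.mp h))
      rw [e]
      exact fun h => hmv x hx hxl (smul_left_cancel σ h)
  -- the labelling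
  obtain ⟨t, hta, htb, htc⟩ : ∃ g : G, g • a = a ∧ g • b = b ∧ g • c ≠ c := by
    by_contra! h
    exact hcl (mem_Ln.mpr h)
  have htS : t ∈ St G a b := mem_St.mpr ⟨hta, htb⟩
  have htmv : ∀ y ∈ π, y ∉ Ln G a b → t • y ≠ y := fun y hy hyl h =>
    htc (hfixall a ha b hb hab t htS y hy hyl h c hc)
  have htπ : ∀ x ∈ π, t • x ∈ π := hmap a ha b hb hab t htS
  have htt : ∀ x : Ω, t • t • x = x := hI a b hab t htS
  set c' := t • c with hc'
  have hcc' : c ≠ c' := Ne.symm htc
  have hc'π : c' ∈ π := htπ c hc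
  obtain ⟨d, hdL, hdc, hdc', hLcases⟩ := exists_third (G := G) hk hcc'
  have htd : t • d = d := by
    have h1 : t • d ∈ Ln G c' c := by
      have := (mem_Ln_smul t).mpr hdL
      rwa [← hc', hc', htt] at this
    have h1' : t • d ∈ Ln G c c' := by rwa [Ln, St_comm]
    rcases hLcases _ h1' with h | h | h
    · exact absurd (by rw [← htt d, h]) hdc'
    · exact absurd (smul_left_cancel t h) hdc
    · exact h
  have hdπ : d ∈ π := hline c hc c' hc'π hdL
  have hdl : d ∈ Ln G a b := by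
    by_contra h
    exact htmv d hdπ h htd
  have hpair : ((Ln G a b).erase d).card = 2 := by
    rw [Finset.card_erase_of_mem hdl, hk a b hab]
  obtain ⟨a', b', hab', hpe⟩ := Finset.card_eq_two.mp hpair
  have ha'm : a' ∈ (Ln G a b).erase d := by rw [hpe]; simp
  have hb'm : b' ∈ (Ln G a b).erase d := by rw [hpe]; simp
  obtain ⟨ha'd, ha'l⟩ := Finset.mem_erase.mp ha'm
  obtain ⟨hb'd, hb'l⟩ := Finset.mem_erase.mp hb'm
  have hlcases : ∀ x ∈ Ln G a b, x = d ∨ x = a' ∨ x = b' := fun x hx => by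
    by_cases h : x = d
    · exact Or.inl h
    · right
      have : x ∈ (Ln G a b).erase d := Finset.mem_erase.mpr ⟨h, hx⟩
      rwa [hpe, Finset.mem_insert, Finset.mem_singleton] at this
  have hta' : t • a' = a' := mem_Ln.mp ha'l t hta htb
  have htb' : t • b' = b' := mem_Ln.mp hb'l t hta htb
  have ha'π : a' ∈ π := hline a ha b hb ha'l
  have hb'π : b' ∈ π := hline a ha b hb hb'l
  have hc'l : c' ∉ Ln G a b := fun h => hcc' (by
    have := mem_Ln.mp h t hta htb
    rw [hc', htt] at this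
    exact this)
  have hca' : a' ≠ c := fun h => hcl (h ▸ ha'l)
  obtain ⟨p, hpL, hpa, hpc, hpcases⟩ := exists_third (G := G) hk hca'
  have hpπ : p ∈ π := hline a' ha'π c hc hpL
  have hpl : p ∉ Ln G a b := fun h => hcl (by
    have h1 := Ln_eq_of_mem h2 hab (Ne.symm hpa) ha'l h
    have h3 := Ln_eq_of_mem h2 hca' (Ne.symm hpa) (left_mem_Ln a' c) hpL
    rw [← h1, h3]; exact right_mem_Ln a' c)
  have hpc' : p ≠ c' := by
    intro h
    have h1 := Ln_eq_of_mem h2 hca' hcc' (right_mem_Ln a' c) (h ▸ hpL)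
    have h3 : a' ∈ Ln G c c' := by rw [h1]; exact left_mem_Ln a' c
    rcases hLcases a' h3 with h4 | h4 | h4
    · exact hca' h4
    · exact hc'l (h4 ▸ ha'l)
    · exact ha'd h4
  set q := t • p with hq
  have hqp : q ≠ p := htmv p hpπ hpl
  have hqπ : q ∈ π := htπ p hpπ
  have hql : q ∉ Ln G a b := fun h => hqp (by
    have := mem_Ln.mp h t hta htb
    rw [hq, htt] at this
    exact this.symm)
  have hqc : q ≠ c := fun h => hpc' (by rw [hc', ← h, hq, htt])
  have hqc' : q ≠ c' := fun h => hpc (smul_left_cancel t h)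
  -- the seven points
  have hseven : ∀ x ∈ π, x = d ∨ x = a' ∨ x = b' ∨ x = c ∨ x = c' ∨ x = p ∨ x = q := by
    intro x hx
    by_contra! hx'
    obtain ⟨x1, x2, x3, x4, x5, x6, x7⟩ := hx'
    have hS : ({x, c, c', p, q} : Finset Ω) ⊆ π \ Ln G a b := by
      have hxl : x ∉ Ln G a b := fun h => by
        rcases hlcases x h with h' | h' | h'
        exacts [x1 h', x2 h', x3 h']
      simp [Finset.insert_subset_iff, Finset.mem_sdiff, hx, hxl, hc, hcl, hc'π, hc'l, hpπ, hpl,
        hqπ, hql]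
    have h5 : ({x, c, c', p, q} : Finset Ω).card = 5 := by
      simp [x4, x5, x6, x7, hcc', Ne.symm hpc, Ne.symm hqc, Ne.symm hpc', Ne.symm hqc',
        Ne.symm hqp]
    have := Finset.card_le_card hS
    rw [h5, Finset.card_sdiff_of_subset (hline a ha b hb), hcard, hk a b hab] at this
    omega
  have hda' : d ≠ a' := Ne.symm ha'd
  have hdp : d ≠ p := fun h => hpl (h ▸ hdl)
  have hdqL : q ∈ Ln G d p := by
    obtain ⟨x, hxL, hxd, hxp, -⟩ := exists_third (G := G) hk hdp
    have hdc2 : d ≠ c := hdc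
    have noL : x ∉ Ln G c c' := by
      intro h
      have h1 := Ln_eq_of_mem h2 hdp (Ne.symm hxd) (left_mem_Ln d p) hxL
      have h3 := Ln_eq_of_mem h2 hcc' (Ne.symm hxd) hdL h
      have : p ∈ Ln G c c' := by rw [← h3, h1]; exact right_mem_Ln d p
      rcases hLcases p this with h' | h' | h'
      exacts [hpc h', hpc' h', hdp h'.symm]
    have nol : x ∉ Ln G a b := by
      intro h
      have h1 := Ln_eq_of_mem h2 hdp (Ne.symm hxd) (left_mem_Ln d p) hxL
      have h3 := Ln_eq_of_mem h2 hab (Ne.symm hxd) hdl h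
      exact hpl (by rw [← h3, h1]; exact right_mem_Ln d p)
    rcases hseven x (hline d hdπ p hpπ hxL) with h | h | h | h | h | h | h
    · exact absurd h hxd
    · exact absurd (by rw [h]; exact ha'l) nol
    · exact absurd (by rw [h]; exact hb'l) nol
    · exact absurd (by rw [h]; exact left_mem_Ln c c') noL
    · exact absurd (by rw [h]; exact right_mem_Ln c c') noL
    · exact absurd h hxp
    · rwa [← h]
  -- an element commuting with `t` and fixing `d` swaps `a'` and `b'`
  have hswap : ∀ g : G, g • d = d → g • a' ≠ a' → g • a' ∈ π → t • g • a' = g • t • a' →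
      g • a' = b' := by
    intro g hgd hga hgπ hgt
    rw [hta'] at hgt
    have hgl : g • a' ∈ Ln G a b := by
      by_contra h
      exact htmv _ hgπ h hgt
    rcases hlcases _ hgl with h | h | h
    · exact absurd (smul_left_cancel g (h.trans hgd.symm)) ha'd
    · exact absurd h hga
    · exact h
  obtain ⟨s, hsS, hsmv⟩ := hinv c hc c' hc'π hcc'
  have hsd : s • d = d := mem_Fix.mp hdL s hsS
  have ha'L : a' ∉ Ln G c c' := fun h => by
    rcases hLcases a' h with h' | h' | h'
    exacts [hca' h', hc'l (h' ▸ ha'l), ha'd h']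
  have hsa : s • a' = b' := hswap s hsd (hsmv a' ha'π ha'L) (hmap c hc c' hc'π hcc' s hsS a' ha'π)
    (hcomm c hc c' hc'π hcc' s hsS hsmv t (by rw [← hc']; exact right_mem_Ln c c')
      (by rw [hc', htt]; exact left_mem_Ln c _) a' ha'π (by rw [hta']; exact ha'π))
  obtain ⟨u, huS, humv⟩ := hinv d hdπ p hpπ hdp
  have ha'N : a' ∉ Ln G d p := by
    intro h
    have h1 := Ln_eq_of_mem h2 hdp hda' (left_mem_Ln d p) h
    have h3 := Ln_eq_of_mem h2 hab hda' hdl ha'l
    exact hpl (by rw [← h3, h1]; exact right_mem_Ln d p)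
  have hua : u • a' = b' := hswap u (mem_St.mp huS).1 (humv a' ha'π ha'N)
    (hmap d hdπ p hpπ hdp u huS a' ha'π)
    (hcomm d hdπ p hpπ hdp u huS humv t (by rw [htd]; exact left_mem_Ln d p)
      (by rw [← hq]; exact hdqL) a' ha'π (by rw [hta']; exact ha'π))
  obtain ⟨w, hwS, hwmv⟩ := hinv a' ha'π c hc hca'
  obtain ⟨hwa, hwc⟩ := mem_St.mp hwS
  have hwp : w • p = p := mem_Fix.mp hpL w hwS
  have hww : ∀ x : Ω, w • w • x = x := hI a' c hca' w hwS
  have hoff : ∀ x, x ≠ a' → x ≠ c → x ≠ p → x ∉ Ln G a' c := fun x x1 x2 x3 h => by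
    rcases hpcases x h with h' | h' | h'
    exacts [x1 h', x2 h', x3 h']
  have hdmv : w • d ≠ d := hwmv d hdπ (hoff d hda' hdc hdp)
  have hb'mv : w • b' ≠ b' := hwmv b' hb'π
    (hoff b' hab'.symm (fun h => hcl (h ▸ hb'l)) (fun h => hpl (h ▸ hb'l)))
  have hc'mv : w • c' ≠ c' := hwmv c' hc'π
    (hoff c' (fun h => hc'l (h ▸ ha'l)) hcc'.symm hpc'.symm)
  have hwπ : ∀ x ∈ π, w • x ∈ π := hmap a' ha'π c hc hca' w hwS
  rcases hseven _ (hwπ d hdπ) with h | h | h | h | h | h | h
  · exact hdmv h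
  · exact hda' (smul_left_cancel w (h.trans hwa.symm))
  · -- `w` stabilises the line through `a'` and `b'`
    have hL' : Ln G a' b' = Ln G a b := Ln_eq_of_mem h2 hab hab' ha'l hb'l
    have htS' : t ∈ St G a' b' := mem_St.mpr ⟨hta', htb'⟩
    have e : w • b' = d := by rw [← h, hww]
    have := hcomm a' ha'π b' hb'π hab' t htS' (fun y hy hyl => htmv y hy (hL' ▸ hyl)) w
      (by rw [hwa]; exact left_mem_Ln a' b') (by rw [e, hL']; exact hdl) c hc (hwπ c hc)
    rw [hwc, ← hc'] at this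
    exact hc'mv this
  · exact hdc (smul_left_cancel w (h.trans hwc.symm))
  · have e : w • c' = d := by rw [← h, hww]
    have := hcomm c hc c' hc'π hcc' s hsS hsmv w (by rw [hwc]; exact left_mem_Ln c c')
      (by rw [e]; exact hdL) a' ha'π (hwπ a' ha'π)
    rw [hwa, hsa] at this
    exact hb'mv this
  · exact hdp (smul_left_cancel w (h.trans hwp.symm))
  · have := hcomm d hdπ p hpπ hdp u huS humv w (by rw [h]; exact hdqL)
      (by rw [hwp]; exact right_mem_Ln d p) a' ha'π (hwπ a' ha'π)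
    rw [hwa, hua] at this
    exact hb'mv this

end Cfsg.Agent.Perm.DerangeBound
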