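import Mathlib
import Cfsg.Agent.Lib.Perm.DerangeBound.Basic

/-!
# Orbits of a two-point stabiliser

The counting identity for orbit sizes, and the exclusion of two configurations: a single orbit of
length three, and a two-point stabiliser with orbits of length two whose one-point kernels differ.
-/

set_option autoImplicit false
set_option linter.unusedSectionVars false
set_option linter.style.haveILetI false

open MulAction
open scoped Classical

namespace Cfsg.Agent.Perm.DerangeBound

noncomputable section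

variable {G Ω : Type*} [Group G] [Fintype G] [MulAction G Ω] [FaithfulSMul G Ω] [Fintype Ω]

/-- The orbit of a point under a subgroup, as a finset. -/
def orbF (H : Subgroup G) (x : Ω) : Finset Ω :=
  Finset.univ.filter fun y => (Quotient.mk'' y : orbitRel.Quotient H Ω) = Quotient.mk'' x

theorem mem_orbF {H : Subgroup G} {x y : Ω} : y ∈ orbF H x ↔ ∃ g ∈ H, g • x = y := by
  simp only [orbF, Finset.mem_filter, Finset.mem_univ, true_and]
  rw [Quotient.eq'', orbitRel_apply, MulAction.mem_orbit_iff]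
  constructor
  · rintro ⟨g, hg⟩; exact ⟨g, g.2, hg⟩
  · rintro ⟨g, hg, h⟩; exact ⟨⟨g, hg⟩, h⟩

theorem self_mem_orbF (H : Subgroup G) (x : Ω) : x ∈ orbF H x :=
  mem_orbF.mpr ⟨1, H.one_mem, one_smul _ _⟩

theorem mem_Fix_iff_orbF {H : Subgroup G} {x : Ω} : x ∈ Fix H ↔ (orbF H x).card = 1 := by
  constructor
  · intro hx
    refine Finset.card_eq_one.mpr ⟨x, Finset.eq_singleton_iff_unique_mem.mpr
      ⟨self_mem_orbF H x, fun y hy => ?_⟩⟩
    obtain ⟨g, hg, rfl⟩ := mem_orbF.mp hy
    exact mem_Fix.mp hx g hg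
  · intro h
    refine mem_Fix.mpr fun g hg => ?_
    obtain ⟨z, hz⟩ := Finset.card_eq_one.mp h
    have h1 : x ∈ ({z} : Finset Ω) := hz ▸ self_mem_orbF H x
    have h2 : g • x ∈ ({z} : Finset Ω) := hz ▸ mem_orbF.mpr ⟨g, hg, rfl⟩
    rw [Finset.mem_singleton] at h1 h2
    rw [h2, h1]

/-- On an orbit of length at most two every element acts as an involution. -/
theorem smul_smul_of_small {H : Subgroup G} {x : Ω} (hx : (orbF H x).card ≤ 2) {g : G}
    (hg : g ∈ H) : g • g • x = x := by
  by_contra h
  have h1 : g • x ≠ x := fun e => h (by rw [e, e])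
  have h3 : g • g • x ≠ g • x := fun e => h1 (smul_left_cancel g e)
  have hs : ({x, g • x, g • g • x} : Finset Ω) ⊆ orbF H x := by
    simp only [Finset.insert_subset_iff, Finset.singleton_subset_iff]
    exact ⟨self_mem_orbF H x, mem_orbF.mpr ⟨g, hg, rfl⟩,
      mem_orbF.mpr ⟨g * g, H.mul_mem hg hg, mul_smul _ _ _⟩⟩
  have := Finset.card_le_card hs
  rw [Finset.card_eq_three.mpr ⟨x, g • x, g • g • x, Ne.symm h1, Ne.symm h, Ne.symm h3, rfl⟩] at this
  omega

/-- On an orbit of length at most two all moving elements agree. -/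
theorem smul_eq_of_small {H : Subgroup G} {x : Ω} (hx : (orbF H x).card ≤ 2) {g g' : G}
    (hg : g ∈ H) (hg' : g' ∈ H) (h : g • x ≠ x) (h' : g' • x ≠ x) : g • x = g' • x := by
  by_contra hne
  have hs : ({x, g • x, g' • x} : Finset Ω) ⊆ orbF H x := by
    simp only [Finset.insert_subset_iff, Finset.singleton_subset_iff]
    exact ⟨self_mem_orbF H x, mem_orbF.mpr ⟨g, hg, rfl⟩, mem_orbF.mpr ⟨g', hg', rfl⟩⟩
  have := Finset.card_le_card hs
  rw [Finset.card_eq_three.mpr ⟨x, g • x, g' • x, Ne.symm h, Ne.symm h', hne, rfl⟩] at this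
  omega

/-- The orbit-length identity: twice the number of orbits against the degree. -/
theorem deficit (H : Subgroup G) :
    2 * norb Ω H ≤ Fintype.card Ω + (Fix (Ω := Ω) H).card ∧
      (2 * norb Ω H = Fintype.card Ω + (Fix (Ω := Ω) H).card → ∀ x : Ω, (orbF H x).card ≤ 2) ∧
      (2 * norb Ω H + 1 = Fintype.card Ω + (Fix (Ω := Ω) H).card →
        ∃ x : Ω, (orbF H x).card = 3 ∧ ∀ y : Ω, y ∉ orbF H x → (orbF H y).card ≤ 2) := by
  haveI := Fintype.ofFinite (orbitRel.Quotient H Ω)
  set mk : Ω → orbitRel.Quotient H Ω := Quotient.mk'' with hmk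
  set F : orbitRel.Quotient H Ω → ℕ := fun q => (Finset.univ.filter fun y => mk y = q).card with hF
  set e : orbitRel.Quotient H Ω → ℕ := fun q => if F q = 1 then 0 else F q - 2 with he
  have hFx : ∀ x, F (mk x) = (orbF H x).card := fun x => rfl
  have hpos : ∀ q, 1 ≤ F q := fun q => by
    induction q using Quotient.inductionOn' with
    | h x => exact Finset.card_pos.mpr ⟨x, self_mem_orbF H x⟩
  have hn : Fintype.card Ω = ∑ q, F q :=
    Finset.card_eq_sum_card_fiberwise (f := mk) (s := Finset.univ) (t := Finset.univ)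
      fun _ _ => Finset.mem_univ _
  have hk : (Fix (Ω := Ω) H).card = ∑ q, if F q = 1 then 1 else 0 := by
    rw [← Finset.card_filter]
    refine Finset.card_bij (fun x _ => mk x) ?_ ?_ ?_
    · intro x hx
      exact Finset.mem_filter.mpr ⟨Finset.mem_univ _, (hFx x).trans (mem_Fix_iff_orbF.mp hx)⟩
    · intro x _ y hy h
      obtain ⟨g, hg⟩ := Quotient.eq''.mp h
      exact hg.symm.trans (mem_Fix.mp hy g g.2)
    · intro q hq
      induction q using Quotient.inductionOn' with
      | h x => exact ⟨x, mem_Fix_iff_orbF.mpr ((hFx x).symm.trans (Finset.mem_filter.mp hq).2), rfl⟩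
  have hmain : Fintype.card Ω + (Fix (Ω := Ω) H).card = 2 * norb Ω H + ∑ q, e q := by
    rw [hn, hk, norb, Nat.card_eq_fintype_card, ← Finset.card_univ, Finset.card_eq_sum_ones,
      Finset.mul_sum, ← Finset.sum_add_distrib, ← Finset.sum_add_distrib]
    refine Finset.sum_congr rfl fun q _ => ?_
    have := hpos q
    simp only [he]
    split_ifs with h <;> omega
  have hsmall : ∀ x, e (mk x) = 0 → (orbF H x).card ≤ 2 := by
    intro x hx
    simp only [he, hFx] at hx
    split_ifs at hx with h <;> omega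
  refine ⟨by omega, fun h x => hsmall x ?_, fun h => ?_⟩
  · exact Finset.sum_eq_zero_iff.mp (by omega : ∑ q, e q = 0) _ (Finset.mem_univ _)
  · have hs1 : ∑ q, e q = 1 := by omega
    obtain ⟨q, -, hq⟩ := Finset.exists_ne_zero_of_sum_ne_zero (by omega : ∑ q, e q ≠ 0)
    induction q using Quotient.inductionOn' with
    | h x =>
      have hrest := Finset.add_sum_erase Finset.univ e (Finset.mem_univ (mk x))
      change e (mk x) ≠ 0 at hq
      refine ⟨x, ?_, fun y hy => hsmall y ?_⟩
      · have h1 : e (mk x) = 1 := by omega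
        simp only [he, hFx] at h1
        split_ifs at h1 with h' <;> omega
      · have h0 : ∑ q ∈ Finset.univ.erase (mk x), e q = 0 := by omega
        refine Finset.sum_eq_zero_iff.mp h0 _ (Finset.mem_erase.mpr ⟨?_, Finset.mem_univ _⟩)
        intro hyx
        exact hy (Finset.mem_filter.mpr ⟨Finset.mem_univ _, hyx⟩)

/-- A two-point stabiliser with one orbit of length three and all others of length at most two
yields a three-cycle, so the group is alternating or symmetric, which is impossible. -/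
theorem no_three_orbit (h2 : TwoTrans G Ω) (hn : 7 ≤ Fintype.card Ω) {a b x : Ω}
    (hx : (orbF (St G a b) x).card = 3)
    (hy : ∀ y : Ω, y ∉ orbF (St G a b) x → (orbF (St G a b) y).card ≤ 2) : False := by
  set H := St G a b with hH
  have h3 : 3 ∣ Nat.card H := by
    rw [← hx, Nat.card_congr (orbitProdStabilizerEquivGroup H x).symm, Nat.card_prod]
    refine dvd_mul_of_dvd_left (dvd_of_eq ?_) _
    rw [Nat.card_eq_fintype_card]
    refine (Fintype.card_subtype _).symm.trans ?_
    refine Fintype.card_congr (Equiv.subtypeEquivRight fun y => ?_)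
    exact Quotient.eq''.trans orbitRel_apply
  haveI : Fact (Nat.Prime 3) := ⟨Nat.prime_three⟩
  obtain ⟨σ₀, hσ₀⟩ := exists_prime_orderOf_dvd_card' 3 h3
  set σ : G := (σ₀ : G) with hσd
  have hσ : orderOf σ = 3 := by rw [hσd, Subgroup.orderOf_coe, hσ₀]
  have hσ3 : σ ^ 3 = 1 := by rw [← hσ]; exact pow_orderOf_eq_one σ
  set P := MulAction.toPermHom G Ω σ with hP
  have hPy : ∀ y : Ω, P y = σ • y := fun y => rfl
  have hinj : Function.Injective (MulAction.toPermHom G Ω) := MulAction.toPerm_injective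
  have hordP : orderOf P = 3 := by rw [hP, orderOf_injective _ hinj, hσ]
  have hsupp : P.support ⊆ orbF H x := by
    intro y hyP
    by_contra hy'
    rw [Equiv.Perm.mem_support, hPy] at hyP
    refine hyP ?_
    have h' := smul_smul_of_small (hy y hy') σ₀.2
    calc σ • y = σ • σ • σ • y := by rw [h']
      _ = (σ ^ 3) • y := by simp [pow_succ, mul_smul]
      _ = y := by rw [hσ3, one_smul]
  have hc3 := (Finset.card_le_card hsupp).trans hx.le
  have hne : P ≠ 1 := fun h => by rw [h, orderOf_one] at hordP; omega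
  have hc2 := Equiv.Perm.two_le_card_support_of_ne_one hne
  have hcne : P.support.card ≠ 2 := fun h => by
    have := (Equiv.Perm.card_support_eq_two.mp h).orderOf
    omega
  have h3c : P.IsThreeCycle := card_support_eq_three_iff.mp (by omega)
  haveI hprim : IsPreprimitive G Ω :=
    isPreprimitive_of_is_two_pretransitive
      (is_two_pretransitive_iff.mpr fun hu hv => h2 _ _ _ _ hu hv)
  let φ : G → (MulAction.toPermHom G Ω).range := (MulAction.toPermHom G Ω).rangeRestrict
  let f : Ω →ₑ[φ] Ω := { toFun := id, map_smul' := fun _ _ => rfl }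
  have hprim' : IsPreprimitive (MulAction.toPermHom G Ω).range Ω :=
    IsPreprimitive.of_surjective (f := f) Function.surjective_id
  have hA : alternatingGroup Ω ≤ (MulAction.toPermHom G Ω).range :=
    Equiv.Perm.alternatingGroup_le_of_isPreprimitive_of_isThreeCycle_mem hprim' h3c ⟨σ, rfl⟩
  set R : Finset Ω := (Finset.univ.erase a).erase b with hR
  have hR5 : 5 ≤ R.card := by
    have h1 := Finset.pred_card_le_card_erase (s := Finset.univ.erase a) (a := b)
    have h2' : (Finset.univ.erase a).card = Fintype.card Ω - 1 := by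
      rw [Finset.card_erase_of_mem (Finset.mem_univ a), Finset.card_univ]
    rw [hR]; omega
  obtain ⟨c, hc⟩ : R.Nonempty := Finset.card_pos.mp (by omega)
  have hmem : ∀ e ∈ R, e ∈ orbF H c := by
    intro e he
    by_cases hec : e = c
    · rw [hec]; exact self_mem_orbF H c
    obtain ⟨c', hc'⟩ : ((R.erase c).erase e).Nonempty := Finset.card_pos.mp (by
      have h1 := Finset.pred_card_le_card_erase (s := R.erase c) (a := e)
      have h2' := Finset.card_erase_of_mem hc
      omega)
    simp only [hR, Finset.mem_erase, Finset.mem_univ, and_true] at hc he hc'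
    obtain ⟨hc'e, hc'c, hc'b, hc'a⟩ := hc'
    have hcyc := Equiv.Perm.isThreeCycle_swap_mul_swap_same (a := c) (b := c') (c := e)
      (Ne.symm hc'c) (Ne.symm hec) hc'e
    obtain ⟨g, hg⟩ := hA hcyc.mem_alternatingGroup
    have hgy : ∀ y : Ω, g • y = (Equiv.swap c c' * Equiv.swap c e) y := fun y => by
      rw [← hg]; rfl
    have hfix : ∀ y, y ≠ c → y ≠ c' → y ≠ e → g • y = y := fun y y1 y2 y3 => by
      rw [hgy, Equiv.Perm.mul_apply, Equiv.swap_apply_of_ne_of_ne y1 y3,
        Equiv.swap_apply_of_ne_of_ne y1 y2]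
    refine mem_orbF.mpr ⟨g, mem_St.mpr ⟨hfix a (Ne.symm hc.2) (Ne.symm hc'a) (Ne.symm he.2),
      hfix b (Ne.symm hc.1) (Ne.symm hc'b) (Ne.symm he.1)⟩, ?_⟩
    rw [hgy, Equiv.Perm.mul_apply, Equiv.swap_apply_left,
      Equiv.swap_apply_of_ne_of_ne hec (Ne.symm hc'e)]
  have hcard := Finset.card_le_card (show R ⊆ orbF H c from hmem)
  by_cases hcx : c ∈ orbF H x
  · have heq : orbF H c = orbF H x := by
      have h' := (Finset.mem_filter.mp hcx).2
      unfold orbF; rw [h']
    rw [heq, hx] at hcard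
    omega
  · have := hy c hcx
    omega

/-- If the two-point stabiliser has orbits of length at most two and fixes exactly two points, then
its one-point kernels coincide. -/
theorem no_two_kernels (h2 : TwoTrans G Ω) {a b c y : Ω} (hab : a ≠ b)
    (heven : Even (Fintype.card Ω))
    (hsm : ∀ x : Ω, (orbF (St G a b) x).card ≤ 2)
    (hl : ∀ x ∈ Ln G a b, x = a ∨ x = b)
    (hca : c ≠ a) (hya : y ≠ a)
    {s t : G} (hs : s ∈ St G a b) (ht : t ∈ St G a b) (hsc : s • c = c) (hsy : s • y ≠ y)
    (hty : t • y = y) (htc : t • c ≠ c) : False := by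
  have hsq : ∀ g ∈ St G a b, g * g = 1 := fun g hg => FaithfulSMul.eq_of_smul_eq_smul (α := Ω)
    fun z => by rw [mul_smul, smul_smul_of_small (hsm z) hg, one_smul]
  let A : Subgroup G := stabilizer G a
  let H : Subgroup A := stabilizer A b
  have hmemH : ∀ g : A, g ∈ H ↔ (g : G) ∈ St G a b := fun g => by
    rw [mem_St]
    exact ⟨fun h => ⟨g.2, h⟩, fun h => h.2⟩
  have hsqH : ∀ g : A, g ∈ H → g * g = 1 := fun g hg => Subtype.ext (hsq _ ((hmemH g).mp hg))
  have htrA : ∀ z : Ω, z ≠ a → ∃ g : A, g • b = z := by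
    intro z hz
    obtain ⟨g, hga, hgb⟩ := h2 a b a z hab (Ne.symm hz)
    exact ⟨⟨g, hga⟩, hgb⟩
  have hindex : H.index = Fintype.card Ω - 1 := by
    rw [show H.index = (orbit A b).ncard from index_stabilizer _ _]
    have horb : orbit A b = ({a}ᶜ : Set Ω) := by
      ext z
      constructor
      · rintro ⟨g, rfl⟩ hz
        have hz' : (g : G) • b = a := hz
        exact hab (smul_left_cancel (g : G) (hz'.trans g.2.symm)).symm
      · exact fun hz => htrA z hz
    rw [horb, Set.ncard_compl, Set.ncard_singleton, Nat.card_eq_fintype_card]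
  have hodd : ¬ 2 ∣ H.index := by
    obtain ⟨m, hm⟩ := heven
    have : 0 < Fintype.card Ω := Fintype.card_pos_iff.mpr ⟨a⟩
    omega
  haveI : Fact (Nat.Prime 2) := ⟨Nat.prime_two⟩
  have hp2 : IsPGroup 2 H := fun g => ⟨1, by
    rw [pow_one, pow_two]; exact Subtype.ext (hsqH g g.2)⟩
  let P : Sylow 2 A := hp2.toSylow hodd
  have hPH : (P : Subgroup A) = H := hp2.toSylow_coe hodd
  have hNC : Subgroup.normalizer P ≤ Subgroup.centralizer ((P : Subgroup A) : Set A) := by
    intro g hg
    have hgH : g ∈ H := by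
      have hgn : ∀ z : A, z ∈ H ↔ g⁻¹ * z * g ∈ H := by
        intro z
        have h' := Subgroup.mem_normalizer_iff''.mp hg z
        rwa [← hPH]
      have hfix : g • b ∈ Ln G a b := by
        refine mem_Ln.mpr fun z hza hzb => ?_
        have hz : (⟨z, hza⟩ : A) ∈ H := hzb
        have h' : (g⁻¹ * ⟨z, hza⟩ * g) • b = b := (hgn _).mp hz
        rw [mul_smul, mul_smul, inv_smul_eq_iff] at h'
        exact h'
      rcases hl _ hfix with h | h
      · exact absurd (smul_left_cancel (g : G) ((g.2 : (g : G) • a = a).trans h.symm)) hab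
      · exact h
    rw [Subgroup.mem_centralizer_iff]
    intro z hz
    rw [hPH] at hz
    have h1 := hsqH g hgH
    have h2' := hsqH z hz
    have h3 := hsqH _ (H.mul_mem hz hgH)
    rw [mul_eq_one_iff_eq_inv] at h1 h2' h3
    rw [h3, mul_inv_rev, ← h1, ← h2']
  obtain ⟨K, hKn, hcompP⟩ : ∃ K : Subgroup A, K.Normal ∧ K.IsComplement' (P : Subgroup A) :=
    ⟨_, MonoidHom.normal_ker _, MonoidHom.ker_transferSylow_isComplement' P hNC⟩
  have hcomp : Subgroup.IsComplement' K H := by rwa [hPH] at hcompP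
  have hKodd : ¬ 2 ∣ Nat.card K := by rw [← hcomp.index_eq_card]; exact hodd
  have hex : ∀ z : Ω, z ≠ a → ∃ k ∈ K, (k : A) • b = z := by
    intro z hz
    obtain ⟨g, hg⟩ := htrA z hz
    obtain ⟨⟨⟨k, hk⟩, ⟨e, he⟩⟩, hke, -⟩ := Subgroup.IsComplement.existsUnique hcomp g
    refine ⟨k, hk, ?_⟩
    have heb : e • b = b := he
    rw [← hg, ← hke, mul_smul, heb]
  have huniq : ∀ k ∈ K, ∀ k' ∈ K, k • b = k' • b → k = k' := by
    intro k hk k' hk' h
    have h1 : k'⁻¹ * k ∈ H := by
      change (k'⁻¹ * k) • b = b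
      rw [mul_smul, h, inv_smul_smul]
    have h2' : k'⁻¹ * k ∈ K ⊓ H := ⟨K.mul_mem (K.inv_mem hk') hk, h1⟩
    rw [hcomp.disjoint.eq_bot, Subgroup.mem_bot, inv_mul_eq_one] at h2'
    exact h2'.symm
  let S : A := ⟨s, (mem_St.mp hs).1⟩
  let T : A := ⟨t, (mem_St.mp ht).1⟩
  have hSH : S ∈ H := (mem_St.mp hs).2
  have hTH : T ∈ H := (mem_St.mp ht).2
  have hSS : ∀ z, S * (S * z) = z := fun z => by rw [← mul_assoc, hsqH S hSH, one_mul]
  have hTT : ∀ z, T * (T * z) = z := fun z => by rw [← mul_assoc, hsqH T hTH, one_mul]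
  have hSi : S⁻¹ = S := inv_eq_of_mul_eq_one_right (hsqH S hSH)
  have hcST : S * T = T * S := by
    have h3 := hsqH _ (H.mul_mem hSH hTH)
    rw [mul_eq_one_iff_eq_inv, mul_inv_rev, hSi, inv_eq_of_mul_eq_one_right (hsqH T hTH)] at h3
    exact h3
  have hconjK : ∀ e : A, e ∈ H → ∀ z ∈ K, e * z * e ∈ K := by
    intro e he z hz
    have := hKn.conj_mem z hz e
    rwa [inv_eq_of_mul_eq_one_right (hsqH e he)] at this
  have hconjb : ∀ e : A, e ∈ H → ∀ z : A, (e * z * e) • b = e • z • b := by
    intro e he z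
    have : e • b = b := he
    rw [mul_smul, mul_smul, this]
  obtain ⟨p, hp, hpb⟩ := hex c hca
  obtain ⟨q, hq, hqb⟩ := hex y hya
  have hSp : S * p * S = p := huniq _ (hconjK S hSH p hp) p hp (by
    rw [hconjb S hSH, hpb]; exact hsc)
  have hTq : T * q * T = q := huniq _ (hconjK T hTH q hq) q hq (by
    rw [hconjb T hTH, hqb]; exact hty)
  have hSq : S * q * S ≠ q := fun h => hsy (by
    have := congrArg (fun z : A => z • b) h
    simp only [hconjb S hSH, hqb] at this
    exact this)
  have hTp : T * p * T ≠ p := fun h => htc (by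
    have := congrArg (fun z : A => z • b) h
    simp only [hconjb T hTH, hpb] at this
    exact this)
  have hSz : S * (p * q) * S = p * (S * q * S) := by
    conv_rhs => rw [← hSp]
    simp [mul_assoc, hSS]
  have hTz : T * (p * q) * T = T * p * T * q := by
    conv_rhs => rw [← hTq]
    simp [mul_assoc, hTT]
  have hz : p * q ∈ K := K.mul_mem hp hq
  by_cases h1 : S • (p * q) • b = (p * q) • b
  · have := huniq _ (hconjK S hSH _ hz) _ hz (by rw [hconjb S hSH]; exact h1)
    rw [hSz] at this
    exact hSq (mul_left_cancel this)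
  by_cases h3 : T • (p * q) • b = (p * q) • b
  · have := huniq _ (hconjK T hTH _ hz) _ hz (by rw [hconjb T hTH]; exact h3)
    rw [hTz] at this
    exact hTp (mul_right_cancel this)
  have heq : S • (p * q) • b = T • (p * q) • b := smul_eq_of_small (hsm _) hs ht h1 h3
  have hE := huniq _ (hconjK S hSH _ hz) _ (hconjK T hTH _ hz)
    (by rw [hconjb S hSH, hconjb T hTH]; exact heq)
  rw [hSz, hTz] at hE
  set w := p⁻¹ * (T * p * T) with hw
  have hwK : w ∈ K := K.mul_mem (K.inv_mem hp) (hconjK T hTH p hp)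
  have hw2 : w = (S * q * S) * q⁻¹ := by
    rw [hw, eq_mul_inv_iff_mul_eq, mul_assoc, inv_mul_eq_iff_eq_mul]
    exact hE.symm
  have hSpi : S * p⁻¹ * S = p⁻¹ := by
    have := congrArg (·⁻¹) hSp
    simpa [mul_assoc, hSi] using this
  have e1 : S * w * S = w := by
    have hST : S * (T * p * T) * S = T * p * T := by
      calc S * (T * p * T) * S = (S * T) * p * (T * S) := by group
        _ = (T * S) * p * (S * T) := by rw [hcST]
        _ = T * (S * p * S) * T := by group
        _ = T * p * T := by rw [hSp]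
    calc S * w * S = (S * p⁻¹ * S) * (S * (T * p * T) * S) := by simp [hw, mul_assoc, hSS]
      _ = w := by rw [hSpi, hST]
  have e2 : S * w * S = w⁻¹ := by
    rw [hw2]
    simp [mul_assoc, hSS, hSi]
  have hww : w * w = 1 := mul_eq_one_iff_eq_inv.mpr (e1.symm.trans e2)
  have hw1 : w = 1 := by
    by_contra h
    have ho : orderOf w = 2 := orderOf_eq_prime (by rw [pow_two, hww]) h
    have : orderOf (⟨w, hwK⟩ : K) ∣ Nat.card K := orderOf_dvd_natCard _
    rw [← Subgroup.orderOf_coe, ho] at this
    exact hKodd this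
  rw [hw, inv_mul_eq_one] at hw1
  exact hTp hw1.symm

end

end Cfsg.Agent.Perm.DerangeBound
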