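import Mathlib
import Cfsg.Agent.Lib.Perm.DerangeBound.Basic
import Cfsg.Agent.Lib.Perm.DerangeBound.Lines
import Cfsg.Agent.Lib.Perm.DerangeBound.Pairs

/-!
# The second moment of the fixed point function on a two-point stabiliser

For a doubly transitive group of degree `n ≥ 7` with two-point stabiliser `H`, with `r` orbits,
the mean of the squared fixed point number on `H` is at least `3nr - n² - r²`.
-/

set_option autoImplicit false
set_option linter.unusedSectionVars false
set_option linter.style.haveILetI false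

open MulAction
open scoped Classical

namespace Cfsg.Agent.Perm.DerangeBound

noncomputable section

variable {G Ω : Type*} [Group G] [Fintype G] [MulAction G Ω] [FaithfulSMul G Ω] [Fintype Ω]

theorem small_all (h2 : TwoTrans G Ω) {a b : Ω} (hab : a ≠ b)
    (hsm : ∀ x : Ω, (orbF (St G a b) x).card ≤ 2) :
    (∀ u v : Ω, u ≠ v → ∀ g ∈ St G u v, ∀ x : Ω, g • g • x = x) ∧
      (∀ u v : Ω, u ≠ v → ∀ g ∈ St G u v, ∀ g' ∈ St G u v, ∀ x : Ω,
        g • x ≠ x → g' • x ≠ x → g • x = g' • x) := by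
  constructor
  · intro u v huv g hg x
    obtain ⟨c, rfl, rfl⟩ := h2 a b u v hab huv
    have hg' : c⁻¹ * g * c ∈ St G a b := by
      rw [← conj_mem_St c]; simpa [mul_assoc] using hg
    have h := smul_smul_of_small (hsm (c⁻¹ • x)) hg'
    have := congrArg (c • ·) h
    simpa [mul_smul] using this
  · intro u v huv g hg g' hg' x hx hx'
    obtain ⟨c, rfl, rfl⟩ := h2 a b u v hab huv
    have h1 : c⁻¹ * g * c ∈ St G a b := by
      rw [← conj_mem_St c]; simpa [mul_assoc] using hg
    have h1' : c⁻¹ * g' * c ∈ St G a b := by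
      rw [← conj_mem_St c]; simpa [mul_assoc] using hg'
    have h := smul_eq_of_small (hsm (c⁻¹ • x)) h1 h1'
      (by simp only [mul_smul, smul_inv_smul]; exact fun h => hx (smul_left_cancel c⁻¹ h))
      (by simp only [mul_smul, smul_inv_smul]; exact fun h => hx' (smul_left_cancel c⁻¹ h))
    simp only [mul_smul, smul_inv_smul] at h
    exact smul_left_cancel c⁻¹ h

/-- The fixed points gained by fixing one more point: one line for each point of the base line. -/
theorem new_Fix_ge (h2 : TwoTrans G Ω) {a b c : Ω} (hab : a ≠ b) (hc : c ∉ Ln G a b) :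
    1 + (Ln G a b).card * ((Ln G a b).card - 2) ≤
      ((Fix (St G a b ⊓ stabilizer G c)) \ Fix (St G a b) : Finset Ω).card := by
  set H := St G a b with hH
  set l := Ln G a b with hl
  set M : Ω → Finset Ω := fun x => ((Ln G x c).erase x).erase c with hM
  have hxc : ∀ x ∈ l, x ≠ c := fun x hx h => hc (h ▸ hx)
  have hK : ∀ x ∈ l, H ⊓ stabilizer G c ≤ St G x c := fun x hx g hg =>
    mem_St.mpr ⟨mem_Fix.mp hx g hg.1, hg.2⟩
  have hMsub : ∀ x ∈ l, ∀ y ∈ M x, y ∈ (Fix (H ⊓ stabilizer G c)) \ Fix H := by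
    intro x hx y hy
    simp only [hM, Finset.mem_erase] at hy
    refine Finset.mem_sdiff.mpr ⟨mem_Fix.mpr fun g hg => mem_Fix.mp hy.2.2 g (hK x hx hg), ?_⟩
    intro hyl
    apply hc
    have h1 : Ln G x y = l := Ln_eq_of_mem h2 hab (Ne.symm hy.2.1) hx hyl
    have h3 : Ln G x y = Ln G x c :=
      Ln_eq_of_mem h2 (hxc x hx) (Ne.symm hy.2.1) (left_mem_Ln x c) hy.2.2
    rw [← h1, h3]
    exact right_mem_Ln x c
  have hdisj : (l : Set Ω).PairwiseDisjoint M := by
    intro x hx x' hx' hne
    refine Finset.disjoint_left.mpr fun y hy hy' => ?_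
    simp only [hM, Finset.mem_erase] at hy hy'
    apply hc
    have hyc : y ≠ c := hy.1
    have e1 : Ln G y c = Ln G x c := Ln_eq_of_mem h2 (hxc x hx) hyc hy.2.2 (right_mem_Ln x c)
    have e2 : Ln G y c = Ln G x' c := Ln_eq_of_mem h2 (hxc x' hx') hyc hy'.2.2 (right_mem_Ln x' c)
    have hx'L : x' ∈ Ln G x c := by rw [← e1, e2]; exact left_mem_Ln x' c
    have e3 : Ln G x x' = Ln G x c := Ln_eq_of_mem h2 (hxc x hx) hne (left_mem_Ln x c) hx'L
    have e4 : Ln G x x' = l := Ln_eq_of_mem h2 hab hne hx hx'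
    rw [← e4, e3]
    exact right_mem_Ln x c
  have hcard : (l.biUnion M).card = l.card * (l.card - 2) := by
    rw [Finset.card_biUnion hdisj, Finset.sum_congr rfl (g := fun _ => l.card - 2) fun x hx => ?_,
      Finset.sum_const, smul_eq_mul]
    simp only [hM]
    rw [Finset.card_erase_of_mem (by simp [(hxc x hx).symm, right_mem_Ln]),
      Finset.card_erase_of_mem (left_mem_Ln x c), card_Ln_eq h2 hab (hxc x hx)]
    rfl
  have hcM : c ∉ l.biUnion M := by simp [hM]
  rw [← hcard, add_comm, ← Finset.card_insert_of_notMem hcM]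
  refine Finset.card_le_card (Finset.insert_subset ?_ ?_)
  · exact Finset.mem_sdiff.mpr ⟨mem_Fix.mpr fun g hg => hg.2, hc⟩
  · intro y hy
    obtain ⟨x, hx, hyx⟩ := Finset.mem_biUnion.mp hy
    exact hMsub x hx y hyx

set_option maxHeartbeats 1000000 in
/-- The gain in the number of orbits when one more point is fixed. -/
theorem exists_gain (h2 : TwoTrans G Ω) (hn : 7 ≤ Fintype.card Ω) {a b : Ω} (hab : a ≠ b) :
    ∃ E : ℕ, (∀ c ∉ Ln G a b,
        norb Ω (St G a b) + E ≤ norb Ω (St G a b ⊓ stabilizer G c)) ∧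
      3 * Fintype.card Ω * norb Ω (St G a b) + E * (Ln G a b).card ≤
        Fintype.card Ω ^ 2 + 2 * norb Ω (St G a b) ^ 2 + E * norb Ω (St G a b) := by
  obtain ⟨hδ, hδmax, hδsub⟩ := deficit (Ω := Ω) (St G a b)
  have hkr : (Ln G a b).card ≤ norb Ω (St G a b) := card_Fix_le_norb _
  have hkn : (Ln G a b).card ≤ Fintype.card Ω := Finset.card_le_univ _
  have hk2 : 2 ≤ (Ln G a b).card :=
    Finset.one_lt_card.mpr ⟨a, left_mem_Ln a b, b, right_mem_Ln a b, hab⟩
  have hfix : (Fix (Ω := Ω) (St G a b)).card = (Ln G a b).card := rfl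
  have hstep : ∀ c : Ω, 2 * norb Ω (St G a b) +
      ((Fix (St G a b ⊓ stabilizer G c)) \ Fix (St G a b) : Finset Ω).card ≤
        2 * norb Ω (St G a b ⊓ stabilizer G c) := fun c => two_norb_le inf_le_left
  have hline : ∀ c ∉ Ln G a b, 1 + (Ln G a b).card * ((Ln G a b).card - 2) ≤
      ((Fix (St G a b ⊓ stabilizer G c)) \ Fix (St G a b) : Finset Ω).card :=
    fun c hc => new_Fix_ge h2 hab hc
  have hbound : ∀ c : Ω, (Ln G a b).card +
      ((Fix (St G a b ⊓ stabilizer G c)) \ Fix (St G a b) : Finset Ω).card =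
        (Fix (Ω := Ω) (St G a b ⊓ stabilizer G c)).card := by
    intro c
    rw [← hfix, add_comm]
    exact Finset.card_sdiff_add_card_eq_card
      fun x hx => mem_Fix.mpr fun g hg => mem_Fix.mp hx g hg.1
  set H := St G a b with hH
  set n := Fintype.card Ω with hndef
  set r := norb Ω H with hrdef
  set k := (Ln G a b).card with hkdef
  rw [hfix] at hδ hδmax hδsub
  by_cases hle : 2 * r ≤ n
  · exact ⟨0, fun c _ => by have := hstep c; omega, by nlinarith⟩
  have hδ0 : n < 2 * r := not_le.mp hle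
  by_cases hall : ∀ c, c ∈ Ln G a b
  · have hkn' : k = n := by
      rw [hkdef, hndef, ← Finset.card_univ]
      exact congrArg Finset.card (Finset.eq_univ_iff_forall.mpr hall)
    have hrn : r = n := by omega
    exact ⟨0, fun c hc => absurd (hall c) hc, by rw [hrn]; nlinarith⟩
  obtain ⟨c₀, hc₀⟩ := not_forall.mp hall
  by_cases hk4 : 4 ≤ k
  · refine ⟨k, fun c hc => ?_, ?_⟩
    · have := hstep c
      have h' := hline c hc
      have : 2 * k ≤ 1 + k * (k - 2) := by
        obtain ⟨m, hm⟩ := Nat.exists_eq_add_of_le hk4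
        rw [hm, show 4 + m - 2 = 2 + m by omega]; nlinarith
      omega
    · have h3k : 3 * k ≤ n := by
        have h' := hline c₀ hc₀
        have h'' := hbound c₀
        have h3 := Finset.card_le_univ (Fix (Ω := Ω) (H ⊓ stabilizer G c₀))
        rw [← hndef] at h3
        have : 2 * k ≤ k * (k - 2) := by
          obtain ⟨m, hm⟩ := Nat.exists_eq_add_of_le hk4
          rw [hm, show 4 + m - 2 = 2 + m by omega]; nlinarith
        omega
      zify at hδ hδ0 hk4 hkr h3k ⊢
      nlinarith [mul_nonneg (show (0 : ℤ) ≤ k - (2 * r - n) by linarith)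
        (show (0 : ℤ) ≤ (n : ℤ) - 2 * k - (2 * r - n) by linarith)]
  have hk23 : k = 2 ∨ k = 3 := by omega
  have hnot3 : ¬ 2 * r + 1 = n + k := fun h => by
    obtain ⟨x, hx, hy⟩ := hδsub h
    exact no_three_orbit h2 hn hx hy
  rcases hk23 with hk | hk
  · -- two fixed points, all orbits of length two
    rw [hk] at hδmax hnot3 hδ
    have hr : 2 * r = n + 2 := by omega
    have hsm : ∀ x, (orbF H x).card ≤ 2 := hδmax hr
    have hP3 : ∀ c ∉ Ln G a b,
        3 ≤ ((Fix (H ⊓ stabilizer G c)) \ Fix H : Finset Ω).card := by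
      intro c hc
      by_contra hlt
      have hsum := hbound c
      obtain ⟨y, -, hyF⟩ := Finset.exists_mem_notMem_of_card_lt_card
        (s := Fix (Ω := Ω) (H ⊓ stabilizer G c)) (t := Finset.univ)
        (by rw [Finset.card_univ, ← hndef]; omega)
      obtain ⟨s, hsK, hsy⟩ : ∃ g ∈ H ⊓ stabilizer G c, g • y ≠ y := by
        by_contra! h
        exact hyF (mem_Fix.mpr h)
      obtain ⟨x0, hx0a, hx0b, hx0c⟩ : ∃ g : G, g • a = a ∧ g • b = b ∧ g • c ≠ c := by
        by_contra! h
        exact hc (mem_Ln.mpr h)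
      have hx0 : x0 ∈ H := mem_St.mpr ⟨hx0a, hx0b⟩
      have hsc : s • c = c := hsK.2
      obtain ⟨t, ht, hty, htc⟩ : ∃ t ∈ H, t • y = y ∧ t • c ≠ c := by
        by_cases hx0y : x0 • y = y
        · exact ⟨x0, hx0, hx0y, hx0c⟩
        · refine ⟨x0 * s, H.mul_mem hx0 hsK.1, ?_, by rwa [mul_smul, hsc]⟩
          rw [mul_smul, smul_eq_of_small (hsm y) hsK.1 hx0 hsy hx0y,
            smul_smul_of_small (hsm y) hx0]
      have hl : ∀ x ∈ Ln G a b, x = a ∨ x = b := by
        intro x hx
        have hpair : Ln G a b = {a, b} := (Finset.eq_of_subset_of_card_le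
          (by simp [Finset.insert_subset_iff, left_mem_Ln, right_mem_Ln])
          (by rw [Finset.card_pair hab, ← hkdef, hk])).symm
        rw [hpair] at hx
        simpa using hx
      refine no_two_kernels h2 hab ⟨r - 1, ?_⟩ hsm hl (fun h => hc (by rw [h]; exact left_mem_Ln a b))
        (fun h => hyF ?_) hsK.1 ht hsc hsy hty htc
      · rw [← hndef]; omega
      · rw [h]; exact mem_Fix.mpr fun g hg => (mem_St.mp hg.1).1
    refine ⟨2, fun c hc => by have := hstep c; have := hP3 c hc; omega, ?_⟩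
    rw [hk]
    nlinarith
  · rw [hk] at hδmax hnot3 hδ hline hbound hkr
    rcases (by omega : 2 * r = n + 1 ∨ 2 * r = n + 3) with hr | hr
    · by_cases hn7 : n = 7
      · refine ⟨3, fun c hc => ?_, ?_⟩
        · have h' := hline c hc
          have h'' := hbound c
          have := card_Fix_le_norb (Ω := Ω) (H ⊓ stabilizer G c)
          omega
        · rw [hk, hn7, show r = 4 by omega]; norm_num
      · refine ⟨2, fun c hc => by have := hstep c; have := hline c hc; omega, ?_⟩
        rw [hk]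
        have : 9 ≤ n := by omega
        nlinarith
    · have hsm : ∀ x, (orbF H x).card ≤ 2 := hδmax hr
      refine ⟨3, fun c hc => ?_, ?_⟩
      · have h' := hline c hc
        have h'' := hbound c
        have := hstep c
        suffices h5 : 5 ≤ ((Fix (H ⊓ stabilizer G c)) \ Fix H : Finset Ω).card by omega
        by_contra h5
        obtain ⟨hI, hII⟩ := small_all h2 hab hsm
        refine no_fano h2 hI hII (fun u v huv => by rw [card_Ln_eq h2 hab huv, ← hkdef, hk])
          (H ⊓ stabilizer G c) (by omega) hab ?_ ?_ ?_ hc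
        · exact mem_Fix.mpr fun g hg => (mem_St.mp hg.1).1
        · exact mem_Fix.mpr fun g hg => (mem_St.mp hg.1).2
        · exact mem_Fix.mpr fun g hg => hg.2
      · rw [hk]; nlinarith

/-- The key inequality. -/
theorem second_moment (h2 : TwoTrans G Ω) (hn : 7 ≤ Fintype.card Ω) {a b : Ω} (hab : a ≠ b) :
    (Nat.card (St G a b) : ℝ) * (3 * (Fintype.card Ω : ℝ) * norb Ω (St G a b) -
      (Fintype.card Ω : ℝ) ^ 2 - (norb Ω (St G a b) : ℝ) ^ 2) ≤
      ∑ g ∈ els (St G a b), (fx Ω g : ℝ) * fx Ω g := by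
  obtain ⟨E, hE, hI⟩ := exists_gain h2 hn hab
  rw [sum_fx_sq_els]
  have hsum := sum_card_inf_stabilizer (Ω := Ω) (St G a b)
  rw [← Finset.sum_add_sum_compl (Ln G a b)] at hsum ⊢
  have hin : ∀ x ∈ Ln G a b, St G a b ⊓ stabilizer G x = St G a b := fun x hx =>
    inf_eq_left.mpr fun g hg => mem_Fix.mp hx g hg
  rw [Finset.sum_congr rfl fun x hx => by rw [hin x hx], Finset.sum_const, nsmul_eq_mul] at hsum
  rw [Finset.sum_congr rfl fun x hx => by rw [hin x hx], Finset.sum_const, nsmul_eq_mul]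
  have hout : ∑ x ∈ (Ln G a b)ᶜ, ((norb Ω (St G a b) : ℝ) + E) *
      Nat.card ↥(St G a b ⊓ stabilizer G x) ≤
      ∑ x ∈ (Ln G a b)ᶜ, (norb Ω (St G a b ⊓ stabilizer G x) : ℝ) *
        Nat.card ↥(St G a b ⊓ stabilizer G x) := by
    refine Finset.sum_le_sum fun x hx => mul_le_mul_of_nonneg_right ?_ (Nat.cast_nonneg _)
    exact_mod_cast hE x (Finset.mem_compl.mp hx)
  rw [← Finset.mul_sum] at hout
  have hI' : 3 * (Fintype.card Ω : ℝ) * norb Ω (St G a b) + E * (Ln G a b).card ≤
      (Fintype.card Ω : ℝ) ^ 2 + 2 * (norb Ω (St G a b) : ℝ) ^ 2 + E * norb Ω (St G a b) := by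
    exact_mod_cast hI
  have hh : (0 : ℝ) ≤ Nat.card (St G a b) := Nat.cast_nonneg _
  have hS : (∑ x ∈ (Ln G a b)ᶜ, (Nat.card ↥(St G a b ⊓ stabilizer G x) : ℝ)) =
      (norb Ω (St G a b) : ℝ) * Nat.card (St G a b) -
        ((Ln G a b).card : ℝ) * Nat.card (St G a b) := by linarith
  rw [hS] at hout
  nlinarith [mul_le_mul_of_nonneg_left hI' hh]

end

end Cfsg.Agent.Perm.DerangeBound
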