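import Mathlib
import Cfsg.Agent.Lib.Perm.DerangeBound.Core

/-!
# The proportion of derangements is at least `2/n` outside two Frobenius cases
-/

set_option autoImplicit false
set_option linter.unusedSectionVars false
set_option linter.style.haveILetI false

open MulAction
open scoped Classical

namespace Cfsg.Agent.Perm.DerangeBound

noncomputable section

variable {G Ω : Type*} [Group G] [Fintype G] [MulAction G Ω] [FaithfulSMul G Ω] [Fintype Ω]

theorem els_top : els (⊤ : Subgroup G) = Finset.univ := by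
  ext g; simp [els]

theorem sum_fx_univ (htr : IsPretransitive G Ω) [Nonempty Ω] :
    ∑ g : G, (fx Ω g : ℝ) = Nat.card G := by
  have h := sum_fx_els_real (Ω := Ω) (⊤ : Subgroup G)
  rw [els_top, Subgroup.card_top] at h
  have h1 : norb Ω (⊤ : Subgroup G) = 1 := by
    refine Nat.card_eq_one_iff_unique.mpr ⟨⟨fun p q => ?_⟩, ⟨Quotient.mk'' (Classical.arbitrary Ω)⟩⟩
    induction p using Quotient.inductionOn' with
    | h x =>
      induction q using Quotient.inductionOn' with
      | h y =>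
        obtain ⟨g, hg⟩ := htr.exists_smul_eq y x
        exact Quotient.sound' ⟨⟨g, Subgroup.mem_top g⟩, hg⟩
  rw [h, h1, Nat.cast_one, one_mul]

theorem three_le_norb (htr : IsPretransitive G Ω) (hn2 : ¬ TwoTrans G Ω) (x : Ω) :
    3 ≤ norb Ω (stabilizer G x) := by
  obtain ⟨y, hy, z, hz, hyz⟩ : ∃ y, y ≠ x ∧ ∃ z, z ≠ x ∧ ∀ g : G, g • x = x → g • y ≠ z := by
    by_contra! h
    apply hn2
    intro u v u' v' huv huv'
    obtain ⟨g, hg⟩ := htr.exists_smul_eq u x
    obtain ⟨g', hg'⟩ := htr.exists_smul_eq u' x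
    obtain ⟨e, hex, hey⟩ := h (g • v) (fun e => huv (smul_left_cancel g (hg.trans e.symm)))
      (g' • v') (fun e => huv' (smul_left_cancel g' (hg'.trans e.symm)))
    refine ⟨g'⁻¹ * e * g, ?_, ?_⟩
    · rw [mul_smul, mul_smul, hg, hex, inv_smul_eq_iff, hg']
    · rw [mul_smul, mul_smul, hey, inv_smul_smul]
  have hzy : z ≠ y := fun h => hyz 1 (one_smul _ _) (by rw [one_smul, h])
  rw [norb]
  haveI := Fintype.ofFinite (orbitRel.Quotient (stabilizer G x) Ω)
  rw [Nat.card_eq_fintype_card]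
  have hne : ∀ w, w ≠ x →
      (Quotient.mk'' w : orbitRel.Quotient (stabilizer G x) Ω) ≠ Quotient.mk'' x := by
    intro w hw h
    obtain ⟨e, he⟩ := Quotient.eq''.mp h
    exact hw (he.symm.trans e.2)
  refine le_trans ?_ (Finset.card_le_univ
    ({Quotient.mk'' x, Quotient.mk'' y, Quotient.mk'' z} :
      Finset (orbitRel.Quotient (stabilizer G x) Ω)))
  refine (Finset.card_eq_three.mpr ⟨_, _, _, (hne y hy).symm, (hne z hz).symm, ?_, rfl⟩).ge
  intro h
  obtain ⟨e, he⟩ := Quotient.eq''.mp h.symm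
  exact hyz e e.2 he

theorem derangements_eq :
    Nat.card {g : G // ∀ ω : Ω, g • ω ≠ ω} = (Finset.univ.filter fun g : G => fx Ω g = 0).card := by
  rw [Nat.card_eq_fintype_card, Fintype.card_subtype]
  congr 1
  ext g
  simp [fx, Finset.filter_eq_empty_iff]

/-- The excess over the second moment. -/
def excess (Ω : Type*) {G : Type*} [Group G] [MulAction G Ω] [Fintype Ω] (g : G) : ℝ :=
  if fx Ω g = 0 then 0 else ((fx Ω g : ℝ) - 1) * ((Fintype.card Ω : ℝ) - fx Ω g)

theorem excess_nonneg (g : G) : 0 ≤ excess Ω g := by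
  unfold excess
  split_ifs with h
  · exact le_refl 0
  · refine mul_nonneg ?_ ?_
    · have : (1 : ℝ) ≤ fx Ω g := by exact_mod_cast Nat.one_le_iff_ne_zero.mpr h
      linarith
    · have : (fx Ω g : ℝ) ≤ Fintype.card Ω := by exact_mod_cast fx_le g
      linarith

theorem derangement_identity (htr : IsPretransitive G Ω) [Nonempty Ω] :
    (Fintype.card Ω : ℝ) * Nat.card {g : G // ∀ ω : Ω, g • ω ≠ ω} =
      ∑ g : G, (fx Ω g : ℝ) * fx Ω g - Nat.card G + ∑ g : G, excess Ω g := by
  rw [derangements_eq]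
  have hterm : ∀ g : G, (if fx Ω g = 0 then (Fintype.card Ω : ℝ) else 0) =
      (fx Ω g : ℝ) * fx Ω g - ((Fintype.card Ω : ℝ) + 1) * fx Ω g + Fintype.card Ω + excess Ω g := by
    intro g
    unfold excess
    split_ifs with h
    · rw [h]; simp
    · ring
  have hl : (Fintype.card Ω : ℝ) * ((Finset.univ.filter fun g : G => fx Ω g = 0).card : ℝ) =
      ∑ g : G, (if fx Ω g = 0 then (Fintype.card Ω : ℝ) else 0) := by
    rw [← Finset.sum_filter, Finset.sum_const, nsmul_eq_mul, mul_comm]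
  rw [hl, Finset.sum_congr rfl fun g _ => hterm g]
  simp only [Finset.sum_add_distrib, Finset.sum_sub_distrib, ← Finset.mul_sum, Finset.sum_const,
    Finset.card_univ, nsmul_eq_mul, sum_fx_univ htr, ← Nat.card_eq_fintype_card (α := G)]
  ring

theorem sum_pairs (h2 : TwoTrans G Ω) {a b : Ω} (hab : a ≠ b) (ψ : ℕ → ℝ) :
    ∑ g : G, (fx Ω g : ℝ) * ((fx Ω g : ℝ) - 1) * ψ (fx Ω g) =
      (Fintype.card Ω : ℝ) * ((Fintype.card Ω : ℝ) - 1) *
        ∑ g ∈ els (St G a b), ψ (fx Ω g) := by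
  rw [sum_fx_pairs]
  have hinner : ∀ x : Ω, ∀ y ∈ Finset.univ.erase x,
      ∑ g ∈ Finset.univ.filter (fun g : G => g • x = x ∧ g • y = y), ψ (fx Ω g) =
        ∑ g ∈ els (St G a b), ψ (fx Ω g) := by
    intro x y hy
    obtain ⟨c, rfl, rfl⟩ := h2 a b x y hab (Ne.symm (Finset.mem_erase.mp hy).1)
    rw [← sum_St_conj c a b ψ]
    refine Finset.sum_congr ?_ fun _ _ => rfl
    ext g
    simp [els, mem_St]
  rw [Finset.sum_congr rfl fun x _ => Finset.sum_congr rfl (hinner x)]
  simp only [Finset.sum_const, Finset.card_erase_of_mem (Finset.mem_univ _), Finset.card_univ,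
    nsmul_eq_mul]
  rw [Nat.cast_sub (Fintype.card_pos_iff.mpr ⟨a⟩ : 1 ≤ Fintype.card Ω), Nat.cast_one]
  ring

theorem excess_ge (h2 : TwoTrans G Ω) (hn : 7 ≤ Fintype.card Ω) {a b : Ω} (hab : a ≠ b)
    (hh : 1 < Nat.card (St G a b)) :
    (Fintype.card Ω : ℝ) * ((Fintype.card Ω : ℝ) - 1) * Nat.card (St G a b) ≤
      ∑ g : G, excess Ω g := by
  have hex : ∀ g : G, excess Ω g = (fx Ω g : ℝ) * ((fx Ω g : ℝ) - 1) *
      (((Fintype.card Ω : ℝ) - fx Ω g) / fx Ω g) := by
    intro g
    unfold excess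
    split_ifs with h
    · rw [h]; simp
    · field_simp
  rw [Finset.sum_congr rfl fun g _ => hex g,
    sum_pairs h2 hab (fun f : ℕ => ((Fintype.card Ω : ℝ) - f) / f)]
  refine mul_le_mul_of_nonneg_left ?_ (mul_nonneg (Nat.cast_nonneg _)
    (by have : (7 : ℝ) ≤ Fintype.card Ω := by exact_mod_cast hn
        linarith))
  have hf : ∀ g ∈ els (St G a b), (2 : ℝ) ≤ fx Ω g ∧ (fx Ω g : ℝ) ≤ Fintype.card Ω := by
    intro g hg
    obtain ⟨ha, hb⟩ := mem_St.mp (mem_els.mp hg)
    refine ⟨?_, by exact_mod_cast fx_le g⟩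
    have h' : 2 ≤ fx Ω g :=
      Finset.one_lt_card.mpr ⟨a, by simp [ha], b, by simp [hb], hab⟩
    exact_mod_cast h'
  set n : ℝ := (Fintype.card Ω : ℝ) with hndef
  set h : ℝ := (Nat.card (St G a b) : ℝ) with hhdef
  set r : ℝ := (norb Ω (St G a b) : ℝ) with hrdef
  set A := ∑ g ∈ els (St G a b), (n - fx Ω g) with hA
  set B := ∑ g ∈ els (St G a b), (fx Ω g : ℝ) * (n - fx Ω g) with hB
  set T := ∑ g ∈ els (St G a b), (n - fx Ω g) / (fx Ω g : ℝ) with hT
  have hcs : A ^ 2 ≤ B * T := by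
    refine Finset.sum_sq_le_sum_mul_sum_of_sq_le_mul _ ?_ ?_ ?_
    · intro g hg
      obtain ⟨h1, h2'⟩ := hf g hg
      exact mul_nonneg (by linarith) (by linarith)
    · intro g hg
      obtain ⟨h1, h2'⟩ := hf g hg
      exact div_nonneg (by linarith) (by linarith)
    · intro g hg
      obtain ⟨h1, -⟩ := hf g hg
      have hne : (fx Ω g : ℝ) ≠ 0 := by linarith
      field_simp
      exact le_refl _
  have hsum1 : ∑ g ∈ els (St G a b), (fx Ω g : ℝ) = r * h := sum_fx_els_real _
  have hcard : ((els (St G a b)).card : ℝ) = h := by rw [card_els]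
  have hAeq : A = h * (n - r) := by
    rw [hA, Finset.sum_sub_distrib, Finset.sum_const, nsmul_eq_mul, hsum1, hcard]; ring
  have hBeq : B = n * (r * h) - ∑ g ∈ els (St G a b), (fx Ω g : ℝ) * fx Ω g := by
    rw [hB, ← hsum1, Finset.mul_sum, ← Finset.sum_sub_distrib]
    exact Finset.sum_congr rfl fun g _ => by ring
  have hkey : h * (3 * n * r - n ^ 2 - r ^ 2) ≤
      ∑ g ∈ els (St G a b), (fx Ω g : ℝ) * fx Ω g := second_moment h2 hn hab
  have hBpos : 0 < B := by
    obtain ⟨g, hg, hg1⟩ : ∃ g ∈ els (St G a b), g ≠ 1 := by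
      by_contra! h'
      have : els (St G a b) ⊆ {1} := fun g hg => Finset.mem_singleton.mpr (h' g hg)
      have := Finset.card_le_card this
      rw [card_els, Finset.card_singleton] at this
      omega
    refine Finset.sum_pos' (fun e he => ?_) ⟨g, hg, ?_⟩
    · obtain ⟨h1, h2'⟩ := hf e he
      exact mul_nonneg (by linarith) (by linarith)
    · obtain ⟨h1, h2'⟩ := hf g hg
      have hlt : fx Ω g < Fintype.card Ω :=
        lt_of_le_of_ne (fx_le g) fun e => hg1 (eq_one_of_fx e)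
      have : (fx Ω g : ℝ) < n := by rw [hndef]; exact_mod_cast hlt
      exact mul_pos (by linarith) (by linarith)
  have hh0 : (0 : ℝ) ≤ h := Nat.cast_nonneg _
  have hAB : h * B ≤ A ^ 2 := by
    rw [hAeq, hBeq]
    nlinarith [mul_le_mul_of_nonneg_left hkey hh0]
  have : h * B ≤ T * B := by linarith
  exact le_of_mul_le_mul_right this hBpos

theorem card_eq_mul (h2 : TwoTrans G Ω) {a b : Ω} (hab : a ≠ b) :
    (Nat.card G : ℝ) =
      (Fintype.card Ω : ℝ) * ((Fintype.card Ω : ℝ) - 1) * Nat.card (St G a b) := by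
  rw [← Subgroup.card_mul_index (St G a b)]
  have hst : St G a b = stabilizer G (a, b) := by
    ext g; simp [mem_St, mem_stabilizer_iff, Prod.ext_iff]
  have hidx : (St G a b).index = (Finset.univ : Finset Ω).offDiag.card := by
    rw [hst, index_stabilizer, ← Set.ncard_coe_finset]
    congr 1
    ext ⟨x, y⟩
    simp only [Finset.coe_offDiag, Set.mem_offDiag, Finset.coe_univ, Set.mem_univ, true_and]
    constructor
    · rintro ⟨g, hg⟩ h
      obtain ⟨h1, h2'⟩ := Prod.ext_iff.mp hg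
      simp only [Prod.smul_fst, Prod.smul_snd] at h1 h2'
      exact hab (smul_left_cancel g ((h1.trans h).trans h2'.symm))
    · intro hxy
      obtain ⟨g, h1, h2'⟩ := h2 a b x y hab hxy
      exact ⟨g, Prod.ext h1 h2'⟩
  rw [hidx, Finset.offDiag_card, Finset.card_univ, Nat.cast_mul,
    Nat.cast_sub (Nat.le_mul_self _), Nat.cast_mul]
  ring

theorem main (htr : IsPretransitive G Ω) (hn : 7 ≤ Fintype.card Ω) :
    (∃ a : ℕ, (a = 1 ∨ a = 2) ∧
      (IsPretransitive G Ω ∧ (∃ g : G, g ≠ 1 ∧ ∃ ω : Ω, g • ω = ω) ∧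
        ∀ g : G, g ≠ 1 → Nat.card (fixedBy Ω g) ≤ 1) ∧
      a * Nat.card G = Fintype.card Ω * (Fintype.card Ω - 1) ∧
      Fintype.card Ω * Nat.card {g : G // ∀ ω : Ω, g • ω ≠ ω} = a * Nat.card G) ∨
    2 * Nat.card G ≤ Fintype.card Ω * Nat.card {g : G // ∀ ω : Ω, g • ω ≠ ω} := by
  haveI : Nonempty Ω := Fintype.card_pos_iff.mp (by omega)
  have hid := derangement_identity (G := G) (Ω := Ω) htr
  have hS : 0 ≤ ∑ g : G, excess Ω g := Finset.sum_nonneg fun g _ => excess_nonneg g
  by_cases h2 : TwoTrans G Ω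
  swap
  · right
    have hsq : (3 : ℝ) * Nat.card G ≤ ∑ g : G, (fx Ω g : ℝ) * fx Ω g := by
      have h := sum_fx_sq_els (Ω := Ω) (⊤ : Subgroup G)
      have hs := sum_card_inf_stabilizer (Ω := Ω) (⊤ : Subgroup G)
      rw [← sum_fx_els_real, els_top, sum_fx_univ htr] at hs
      rw [els_top] at h
      rw [h, ← hs, Finset.mul_sum]
      refine Finset.sum_le_sum fun x _ => mul_le_mul_of_nonneg_right ?_ (Nat.cast_nonneg _)
      rw [top_inf_eq]
      exact_mod_cast three_le_norb htr h2 x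
    have : (2 : ℝ) * Nat.card G ≤
        (Fintype.card Ω : ℝ) * Nat.card {g : G // ∀ ω : Ω, g • ω ≠ ω} := by linarith
    exact_mod_cast this
  obtain ⟨a, b, hab⟩ := Fintype.exists_pair_of_one_lt_card (α := Ω) (by omega)
  have hG := card_eq_mul h2 hab
  have hpairs := sum_pairs h2 hab (fun _ => (1 : ℝ))
  simp only [mul_one, Finset.sum_const, nsmul_eq_mul, card_els, ← hG] at hpairs
  have hsq : ∑ g : G, (fx Ω g : ℝ) * fx Ω g = 2 * Nat.card G := by
    simp only [mul_sub, mul_one, Finset.sum_sub_distrib, sum_fx_univ htr] at hpairs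
    linarith
  by_cases hh : Nat.card (St G a b) = 1
  · left
    have hfree : ∀ g : G, g ≠ 1 → fx Ω g ≤ 1 := by
      intro g hg
      by_contra h
      obtain ⟨x, hx, y, hy, hxy⟩ := Finset.one_lt_card.mp (not_le.mp h)
      simp only [Finset.mem_filter, Finset.mem_univ, true_and] at hx hy
      have h1 : Nat.card (St G x y) = 1 := (card_St_eq h2 hab hxy).trans hh
      exact hg (Subgroup.mem_bot.mp (Subgroup.card_eq_one.mp h1 ▸ mem_St.mpr ⟨hx, hy⟩))
    have hz : ∑ g : G, excess Ω g = 0 := by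
      refine Finset.sum_eq_zero fun g _ => ?_
      unfold excess
      split_ifs with h
      · rfl
      · by_cases hg : g = 1
        · rw [hg, fx_one, sub_self, mul_zero]
        · rw [show fx Ω g = 1 by have := hfree g hg; omega, Nat.cast_one, sub_self, zero_mul]
    refine ⟨1, Or.inl rfl, ⟨htr, ?_, fun g hg => ?_⟩, ?_, ?_⟩
    · obtain ⟨c, hca, hcb⟩ : ∃ c, c ≠ a ∧ c ≠ b := by
        by_contra! h
        have : (Finset.univ : Finset Ω) ⊆ {a, b} := fun c _ => by
          by_cases hc : c = a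
          · simp [hc]
          · simp [h c hc]
        have := (Finset.card_le_card this).trans Finset.card_le_two
        rw [Finset.card_univ] at this
        omega
      obtain ⟨g, hga, hgb⟩ := h2 a b a c hab (Ne.symm hca)
      exact ⟨g, fun h => hcb (by rw [← hgb, h, one_smul]), a, hga⟩
    · rw [natCard_fixedBy]; exact hfree g hg
    · have h7 : 1 ≤ Fintype.card Ω := by omega
      rw [hh, Nat.cast_one, mul_one] at hG
      have : ((1 * Nat.card G : ℕ) : ℝ) = ((Fintype.card Ω * (Fintype.card Ω - 1) : ℕ) : ℝ) := by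
        push_cast [Nat.cast_sub h7]; linarith
      exact_mod_cast this
    · rw [hz, hsq] at hid
      have : (Fintype.card Ω : ℝ) * Nat.card {g : G // ∀ ω : Ω, g • ω ≠ ω} = Nat.card G := by
        linarith
      rw [one_mul]
      exact_mod_cast this
  · right
    have hex := excess_ge h2 hn hab (by have := Nat.card_pos (α := St G a b); omega)
    rw [← hG] at hex
    have : (2 : ℝ) * Nat.card G ≤
        (Fintype.card Ω : ℝ) * Nat.card {g : G // ∀ ω : Ω, g • ω ≠ ω} := by linarith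
    exact_mod_cast this

end

end Cfsg.Agent.Perm.DerangeBound
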